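import Mathlib
import Cfsg.Agent.Lib.C16.Defs
import Cfsg.Agent.Lib.OL5.GA
import Cfsg.Agent.Lib.OL5.EC
import Cfsg.Agent.Lib.OL5.EM
import Cfsg.Agent.Lib.OL5.E16
import Cfsg.Agent.Lib.OL5.E32

set_option autoImplicit false
set_option linter.unusedSectionVars false

namespace H85.C16

open H86 (Cen Nor)
open Subgroup (zpowers center closure)

variable {G : Type*} [Group G] [Finite G] {D P T F : Subgroup G} {z b : G}

theorem a2_core (hD : IsPGroup 2 D) (hab : D ≤ Cen D) (hz : z ∈ D)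
    (hc : Nat.card D ≤ 16 * orderOf z) (hT : T ≤ Nor D) (ho : Odd (Nat.card T))
    (hf : T ⊓ Cen D = ⊥) :
    ∃ u ∈ D, Nat.card (T ⊓ Cen (zpowers u) : Subgroup G) ∣ 3 ∨
      (Nat.card D = 32 ∧ orderOf u = 2 ∧ Nat.card (T ⊓ Cen (zpowers u) : Subgroup G) ∣ 5) := by
  haveI : Fact (Nat.Prime 2) := ⟨Nat.prime_two⟩
  let f : D →* G := MonoidHom.mk' (fun x => (x : G) ^ 2) fun a b => by
    rw [Subgroup.coe_mul, (show Commute (a : G) b from hab b.2 a a.2).mul_pow]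
  let V : Subgroup G := f.ker.map D.subtype
  have mV : ∀ x, x ∈ V ↔ x ∈ D ∧ x ^ 2 = 1 := fun x =>
    ⟨by rintro ⟨y, hy, rfl⟩; exact ⟨y.2, hy⟩, fun h => ⟨⟨x, h.1⟩, h.2, rfl⟩⟩
  have le : V ≤ D := fun x hx => ((mV x).1 hx).1
  have h0 : ∀ v ∈ V, v ^ 2 = 1 := fun v hv => ((mV v).1 hv).2
  have od : ∀ t ∈ T, ¬ 2 ∣ orderOf t := fun t ht =>
    (ho.of_dvd_nat (H1.orderOf_dvd_card_of_mem ht)).not_two_dvd_nat
  have n0 : T ≤ Nor V := H81.FB.nrm_of fun g hg x hx =>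
    (mV _).2 ⟨H81.FB.cjm (hT hg) (le hx), by rw [conj_pow, h0 x hx]; simp⟩
  have f0 : T ⊓ Cen V = ⊥ := eq_bot_iff.2 fun t ht => hf.le ⟨ht.1,
    OL5.cen_of_omega hD hab (hT ht.1) (od t ht.1) fun x hx e =>
      mul_inv_eq_iff_eq_mul.2 (ht.2 x ((mV x).2 ⟨hx, e⟩)).symm⟩
  by_cases h : Nat.card V ≤ 16
  · obtain ⟨u, hu, e⟩ := OL5.stab16 h0 h n0 ho f0
    exact ⟨u, le hu, Or.inl e⟩
  have c1 : Nat.card V * Nat.card f.range = Nat.card D := by
    rw [Subgroup.card_map_of_injective D.subtype_injective, ← Subgroup.index_ker,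
      Subgroup.card_mul_index]
  have zS : zpowers (z ^ 2) ≤ f.range := Subgroup.zpowers_le.2 ⟨⟨z, hz⟩, rfl⟩
  have c2 : orderOf (z ^ 2) ≤ Nat.card f.range := by
    rw [← Nat.card_zpowers]; exact Subgroup.card_le_of_le zS
  have p2 := orderOf_pos (z ^ 2)
  have c3 : orderOf z ≤ 2 * orderOf (z ^ 2) :=
    Nat.le_of_dvd (by omega) (orderOf_dvd_of_pow_eq_one (by rw [pow_mul, pow_orderOf_eq_one]))
  have c4 : Nat.card V ≤ 32 := by
    have : Nat.card V * orderOf (z ^ 2) ≤ 32 * orderOf (z ^ 2) :=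
      (Nat.mul_le_mul_left _ c2).trans (by omega)
    exact Nat.le_of_mul_le_mul_right this p2
  have c : Nat.card V = 32 := by
    obtain ⟨k, hk⟩ := IsPGroup.iff_card.1 (OL5.isPGroup_of_sq h0)
    rw [hk] at h c4 ⊢
    have : k ≤ 5 := (Nat.pow_le_pow_iff_right (by norm_num)).1 (c4 : 2 ^ k ≤ 2 ^ 5)
    interval_cases k <;> omega
  rw [c] at c1
  have eS : zpowers (z ^ 2) = f.range :=
    Subgroup.eq_of_le_of_card_ge zS (by rw [Nat.card_zpowers]; omega)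
  have SD : f.range ≤ D := by rintro _ ⟨y, rfl⟩; exact pow_mem y.2 2
  rcases (hD.to_le SD).card_eq_or_dvd with h1 | h1
  · obtain ⟨u, hu, e⟩ := OL5.stab32 h0 c n0 ho f0
    exact ⟨u, le hu, e.imp_right fun e =>
      ⟨by omega, orderOf_eq_prime (h0 u hu) e.1, e.2⟩⟩
  obtain ⟨w, hw⟩ := exists_prime_orderOf_dvd_card' 2 h1
  have hw' : orderOf (w : G) = 2 := by rw [Subgroup.orderOf_coe, hw]
  have w1 : (w : G) ≠ 1 := fun e => by rw [e, orderOf_one] at hw'; omega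
  have wV : (w : G) ∈ V := (mV _).2 ⟨SD w.2, hw' ▸ pow_orderOf_eq_one (w : G)⟩
  have nS : T ≤ Nor (f.range ⊓ V : Subgroup G) := H81.FB.nrm_of fun g hg x hx => by
    refine ⟨?_, H81.FB.cjm (n0 hg) hx.2⟩
    obtain ⟨y, rfl⟩ := hx.1
    exact ⟨⟨_, H81.FB.cjm (hT hg) y.2⟩, conj_pow⟩
  have cK : Nat.card (f.range ⊓ V : Subgroup G) ≤ 2 := by
    haveI : IsCyclic (f.range ⊓ V : Subgroup G) :=
      Subgroup.isCyclic_of_le (inf_le_left.trans eS.ge)
    rw [← IsCyclic.exponent_eq_card]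
    exact Nat.le_of_dvd (by norm_num)
      (Monoid.exponent_dvd_of_forall_pow_eq_one fun x => Subtype.ext (h0 x x.2.2))
  have wC : (w : G) ∈ V ⊓ Cen T := ⟨wV, H86.mem_Cen.2 fun t ht =>
    (H86.mem_Cen.1 (OL5.cen_of_index_two (hD.to_le (inf_le_left.trans SD)) bot_le (nS ht)
      (od t ht) (by rw [H86.Cen_bot]; trivial) (by rw [Subgroup.card_bot]; exact cK))
      w ⟨w.2, wV⟩).symm⟩
  obtain ⟨W, a1, a2, -, -, a5, a6⟩ :=
    OL5.exists_compl h0 n0 ho le_rfl Subgroup.le_normalizer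
  have a7 := (Subgroup.one_lt_card_iff_ne_bot (V ⊓ Cen T)).2 fun e => w1 (e.le wC)
  have a8 : Nat.card W ≤ 16 := by
    have : 2 * Nat.card W ≤ 32 := (Nat.mul_le_mul_right _ a7).trans (by omega)
    omega
  obtain ⟨u, hu, e⟩ := OL5.stab16 (fun v hv => h0 v (a1 hv)) a8 a2 ho
    (eq_bot_iff.2 fun t ht => f0.le ⟨ht.1, by
      rw [← a5, H86.Cen_sup]
      exact ⟨H86.mem_Cen.2 fun x hx => (H86.mem_Cen.1 hx.2 t ht.1).symm, ht.2⟩⟩)
  exact ⟨u, le (a1 hu), Or.inl e⟩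

theorem ab2 (hD : IsPGroup 2 D) (hab : D ≤ Cen D) (hz : z ∈ D) (hc : Nat.card D ≤ 16 * orderOf z)
    (hT : T ≤ Nor D) (ho : ¬ 2 ∣ (Cen D).relIndex T) :
    ∃ u ∈ D, (Cen D).relIndex (T ⊓ Cen (zpowers u)) ∣ 3 ∨
      (Nat.card D = 32 ∧ orderOf u = 2 ∧ (Cen D).relIndex (T ⊓ Cen (zpowers u)) ∣ 5) := by
  classical
  let X := D ⋊[MonoidHom.id (MulAut D)] MulAut D
  haveI : Finite X := Finite.of_equiv _ SemidirectProduct.equivProd.symm
  let il : D →* X := SemidirectProduct.inl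
  let ir : MulAut D →* X := SemidirectProduct.inr
  have hil : Function.Injective il := SemidirectProduct.inl_injective
  have hir : Function.Injective ir := SemidirectProduct.inr_injective
  let V : Subgroup X := (⊤ : Subgroup D).map il
  let I : Subgroup (MulAut D) := (T.subgroupOf (Nor D)).map D.normalizerMonoidHom
  let E : Subgroup X := I.map ir
  have cV : Nat.card V = Nat.card D := by
    rw [Subgroup.card_map_of_injective hil, Subgroup.card_top]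
  have cE : Nat.card E = (Cen D).relIndex T := by
    rw [Subgroup.card_map_of_injective hir, OL5.em_card hT]
  have hV : IsPGroup 2 V := (hD.to_subgroup ⊤).map il
  have hab' : V ≤ Cen V := by
    rintro _ ⟨x, -, rfl⟩
    rw [H86.mem_Cen]
    rintro _ ⟨y, -, rfl⟩
    rw [← map_mul, ← map_mul]
    congr 1
    exact Subtype.ext (H86.mem_Cen.1 (hab x.2) y y.2)
  haveI nV : V.Normal := by
    have : V = (SemidirectProduct.rightHom : X →* MulAut D).ker := by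
      rw [← SemidirectProduct.range_inl_eq_ker_rightHom, MonoidHom.range_eq_map]
    rw [this]; infer_instance
  have hE : E ≤ Nor V := by
    rw [show Nor V = ⊤ from Subgroup.normalizer_eq_top V]; exact le_top
  have hoE : Odd (Nat.card E) := by
    rw [cE]; exact Nat.odd_iff.2 (by omega)
  have hf : E ⊓ Cen V = ⊥ := by
    rw [eq_bot_iff]
    rintro _ ⟨⟨α, -, rfl⟩, h⟩
    have : α = 1 := MulEquiv.ext fun x =>
      (OL5.em_comm α x).1 (H86.mem_Cen.1 h (il x) ⟨x, trivial, rfl⟩)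
    rw [this, map_one]; exact Subgroup.one_mem _
  have od : ∀ x : D, orderOf (il x) = orderOf (x : G) := fun x => by
    rw [orderOf_injective il hil, Subgroup.orderOf_coe]
  obtain ⟨_, ⟨u, -, rfl⟩, hu⟩ := a2_core (z := il ⟨z, hz⟩) hV hab' ⟨_, trivial, rfl⟩
    (by rw [cV, od]; exact hc) hE hoE hf
  have key : Nat.card (E ⊓ Cen (zpowers (il u)) : Subgroup X) =
      (Cen D).relIndex (T ⊓ Cen (zpowers (u : G))) := by
    rw [← OL5.em_card (inf_le_left.trans hT), ← Subgroup.card_map_of_injective hir]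
    congr 2
    ext y
    constructor
    · rintro ⟨⟨_, ⟨g, hg, rfl⟩, rfl⟩, h⟩
      refine ⟨_, ⟨g, ⟨hg, H86.mem_Cen_zpowers.2 ?_⟩, rfl⟩, rfl⟩
      have h1 := congrArg Subtype.val ((OL5.em_comm _ u).1 (H86.mem_Cen_zpowers.1 h))
      rw [OL5.em_val] at h1
      exact (mul_inv_eq_iff_eq_mul.1 h1).symm
    · rintro ⟨_, ⟨g, ⟨hg, h⟩, rfl⟩, rfl⟩
      refine ⟨⟨_, ⟨g, hg, rfl⟩, rfl⟩,
        H86.mem_Cen_zpowers.2 ((OL5.em_comm _ u).2 (Subtype.ext ?_))⟩
      rw [OL5.em_val]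
      exact mul_inv_eq_iff_eq_mul.2 (H86.mem_Cen_zpowers.1 h).symm
  refine ⟨u, u.2, ?_⟩
  rw [key, cV, od] at hu
  exact hu

end H85.C16
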