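import Mathlib
import Cfsg.Agent.Lib.C16.Defs
import Cfsg.Agent.Lib.OL5.GA
import Cfsg.Agent.Lib.OL5.EC
import Cfsg.Agent.Lib.OL5.EM

set_option autoImplicit false
set_option linter.unusedSectionVars false

namespace H85.C16

open H86 (Cen Nor)
open Subgroup (zpowers center closure)

section aut

variable {V : Type*} [Group V] [Finite V] (hc : Nat.card V = 27)

local notation "Fx" δ => MonoidHom.eqLocus (MulEquiv.toMonoidHom δ) (MonoidHom.id _)

include hc

theorem a3e_sub (A : Subgroup V) :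
    A = ⊤ ∨ Nat.card A = 1 ∨ Nat.card A = 3 ∨ Nat.card A = 9 := by
  have h : Nat.card A ∣ 3 ^ 3 := (Subgroup.card_subgroup_dvd_card A).trans hc.dvd
  obtain ⟨k, k1, k2⟩ := (Nat.dvd_prime_pow Nat.prime_three).mp h
  interval_cases k
  · exact Or.inr (Or.inl k2)
  · exact Or.inr (Or.inr (Or.inl k2))
  · exact Or.inr (Or.inr (Or.inr k2))
  · exact Or.inl (Subgroup.eq_top_of_card_eq A (k2.trans hc.symm))

theorem a3e_prime {α : MulAut V} {q : ℕ} (hq : q.Prime) (ho : orderOf α = q) (h3 : q ≠ 3) :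
    q = 2 ∨ (q = 13 ∧ ∀ u, α u = u → u = 1) := by
  haveI := Fact.mk hq
  have hK : IsPGroup q (zpowers α) := IsPGroup.of_card (n := 1) (by rw [Nat.card_zpowers, ho, pow_one])
  have h1 := hK.card_modEq_card_fixedPoints V
  have h2 : Nat.card (MulAction.fixedPoints (zpowers α) V) = Nat.card (Fx α) :=
    Nat.card_congr (Equiv.subtypeEquivRight fun x => ⟨fun h => h ⟨α, Subgroup.mem_zpowers α⟩,
      fun h g => (Subgroup.zpowers_le (H := MulAction.stabilizer (MulAut V) x)).mpr h g.2⟩)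
  rw [h2, hc] at h1
  have e : ∀ {a : ℕ}, a < 27 → 27 ≡ a [MOD q] → q ∣ 27 - a := fun k h =>
    (Nat.modEq_iff_dvd' k.le).mp h.symm
  rcases a3e_sub hc (Fx α) with h | h | h | h
  · have : α = 1 := MulEquiv.ext fun x => (h ▸ Subgroup.mem_top x : x ∈ (Fx α))
    rw [this, orderOf_one] at ho
    exact absurd (ho ▸ hq) Nat.not_prime_one
  · rw [h] at h1
    rcases (Nat.Prime.dvd_mul hq (m := 2) (n := 13)).mp (e (by norm_num) h1) with k | k
    · exact Or.inl ((Nat.prime_dvd_prime_iff_eq hq Nat.prime_two).mp k)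
    · refine Or.inr ⟨(Nat.prime_dvd_prime_iff_eq hq (by norm_num)).mp k, fun u hu => ?_⟩
      exact Subgroup.mem_bot.mp (Subgroup.eq_bot_of_card_eq _ h ▸ (hu : u ∈ (Fx α)))
  · rw [h] at h1
    rcases (Nat.Prime.dvd_mul hq (m := 2 ^ 3) (n := 3)).mp (e (by norm_num) h1) with k | k
    · exact Or.inl ((Nat.prime_dvd_prime_iff_eq hq Nat.prime_two).mp (hq.dvd_of_dvd_pow k))
    · exact absurd ((Nat.prime_dvd_prime_iff_eq hq Nat.prime_three).mp k) h3
  · rw [h] at h1
    rcases (Nat.Prime.dvd_mul hq (m := 2) (n := 3 ^ 2)).mp (e (by norm_num) h1) with k | k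
    · exact Or.inl ((Nat.prime_dvd_prime_iff_eq hq Nat.prime_two).mp k)
    · exact absurd ((Nat.prime_dvd_prime_iff_eq hq Nat.prime_three).mp (hq.dvd_of_dvd_pow k)) h3

theorem a3e_bound (K : Subgroup (MulAut V)) :
    Nat.card K * Nat.card (FixedPoints.subgroup K V) ^ 3 ≤ 27 ^ 3 := by
  induction' h : Nat.card K using Nat.strong_induction_on with n ih generalizing K
  subst h
  by_cases k : ∀ y, y ∈ FixedPoints.subgroup K V
  · have : K = ⊥ := eq_bot_iff.mpr fun g hg => Subgroup.mem_bot.mpr (MulEquiv.ext fun y =>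
      (FixedPoints.mem_subgroup _ _ _).mp (k y) ⟨g, hg⟩)
    rw [show Nat.card K = 1 by rw [this, Subgroup.card_bot], one_mul]
    exact Nat.pow_le_pow_left (hc ▸ Subgroup.card_le_card_group _) 3
  push Not at k
  obtain ⟨y, hy⟩ := k
  let L := (MulAction.stabilizer K y).map K.subtype
  have l1 : Nat.card L = Nat.card (MulAction.stabilizer K y) :=
    Subgroup.card_map_of_injective K.subtype_injective
  have l2 := (MulAction.stabilizer K y).card_mul_index
  have l3 : (MulAction.stabilizer K y).index ≤ 27 := by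
    rw [MulAction.index_stabilizer, ← hc, ← Set.ncard_univ]
    exact Set.ncard_le_ncard (Set.subset_univ _)
  have l4 : Nat.card L < Nat.card K := by
    rw [l1]
    refine lt_of_le_of_ne (Subgroup.card_le_card_group _) fun e => hy ?_
    rw [FixedPoints.mem_subgroup]
    exact fun g => (Subgroup.eq_top_of_card_eq _ e ▸ Subgroup.mem_top g :
      g ∈ MulAction.stabilizer K y)
  have l5 : FixedPoints.subgroup K V ≤ FixedPoints.subgroup L V := fun x hx => by
    rw [FixedPoints.mem_subgroup] at hx ⊢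
    rintro ⟨_, g, -, rfl⟩
    exact hx g
  have l6 : y ∈ FixedPoints.subgroup L V := by
    rw [FixedPoints.mem_subgroup]
    rintro ⟨_, g, hg, rfl⟩
    exact hg
  have l7 : Nat.card (FixedPoints.subgroup K V) < Nat.card (FixedPoints.subgroup L V) :=
    lt_of_le_of_ne (Subgroup.card_le_of_le l5) fun e =>
      hy (Subgroup.eq_of_le_of_card_ge l5 e.ge ▸ l6)
  have l8 : 3 * Nat.card (FixedPoints.subgroup K V) ≤ Nat.card (FixedPoints.subgroup L V) := by
    rcases a3e_sub hc (FixedPoints.subgroup K V) with a | a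
    · exact absurd (a ▸ Subgroup.mem_top y) hy
    rcases a3e_sub hc (FixedPoints.subgroup L V) with b | b
    · rw [b, Subgroup.card_top, hc]; omega
    · omega
  have l9 := ih _ l4 L rfl
  calc _ ≤ (Nat.card L * 27) * Nat.card (FixedPoints.subgroup K V) ^ 3 := by
        rw [← l2, l1]; gcongr
    _ = Nat.card L * (3 * Nat.card (FixedPoints.subgroup K V)) ^ 3 := by ring
    _ ≤ _ := le_trans (by gcongr) l9

theorem a3e_sq {δ β : MulAut V} (h : ∀ y, δ (β y) = β⁻¹ (δ y)) (hf : ∀ y, β (β y) = y → y = 1) :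
    Nat.card (Fx δ) ≤ 5 := by
  have : Nat.card ((Fx δ) × (Fx δ)) ≤ Nat.card V :=
    Nat.card_le_card_of_injective (fun p => (p.1 : V) * β p.2) (by
      rintro ⟨a, b⟩ ⟨a', b'⟩ k
      have k1 : β (b' * b⁻¹ : (Fx δ)) = (a'⁻¹ * a : (Fx δ)) := by
        simp only [Subgroup.coe_mul, Subgroup.coe_inv, map_mul, map_inv]
        rw [mul_inv_eq_iff_eq_mul, mul_assoc, eq_inv_mul_iff_mul_eq]
        exact k.symm
      have k2 := h (b' * b⁻¹ : (Fx δ))
      rw [show δ (b' * b⁻¹ : (Fx δ)) = _ from (b' * b⁻¹).2, k1,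
        show δ (a'⁻¹ * a : (Fx δ)) = _ from (a'⁻¹ * a).2] at k2
      have k3 := hf (b' * b⁻¹ : (Fx δ)) (by
        rw [k1]; simpa using congrArg β k2)
      rw [k3, map_one] at k1
      exact Prod.ext (inv_mul_eq_one.mp (Subtype.ext k1.symm)).symm
        (mul_inv_eq_one.mp (Subtype.ext k3)).symm)
  rw [Nat.card_prod, hc] at this
  nlinarith

theorem a3e_two (hm : ∀ x y : V, x * y = y * x) (h3 : ∀ x : V, x ^ 3 = 1) {E : Subgroup (MulAut V)}
    (hE : IsPGroup 2 E) : ∃ b : V, b ≠ 1 ∧ ∀ α ∈ E, α b = b ∨ α b = b⁻¹ := by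
  classical
  obtain ⟨ι, hι⟩ : ∃ ι : MulAut V, ∀ x, ι x = x⁻¹ :=
    ⟨MulEquiv.mk' (Equiv.inv V) fun x y => by simp [hm], fun _ => rfl⟩
  haveI : (zpowers ι).Normal := ⟨fun n hn g => by
    have := Subgroup.mem_center_iff.mp (Subgroup.zpowers_le.mpr (Subgroup.mem_center_iff.mpr
      fun g => MulEquiv.ext fun x => by simp [hι]) hn) g
    rwa [this, mul_inv_cancel_right]⟩
  have h1 : IsPGroup 2 (zpowers ι) := fun g => ⟨1, by
    obtain ⟨_, k, rfl⟩ := g
    refine Subtype.ext ?_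
    have : ι ^ 2 = 1 := MulEquiv.ext fun x => by simp [sq, hι]
    show (ι ^ k) ^ 2 ^ 1 = 1
    rw [pow_one, ← zpow_natCast, ← zpow_mul, mul_comm, zpow_mul, zpow_natCast, this, one_zpow]⟩
  have hA := hE.to_sup_of_normal_right h1
  by_contra hn
  push Not at hn
  let A := E ⊔ zpowers ι
  haveI := Fintype.ofFinite (MulAction.orbitRel.Quotient A V)
  have s1 := Nat.card_congr (MulAction.selfEquivSigmaOrbits' A V)
  rw [hc, Nat.card_sigma, ← Finset.add_sum_erase _ _ (Finset.mem_univ (Quotient.mk'' 1))] at s1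
  have s2 : Nat.card (MulAction.orbitRel.Quotient.orbit (G := A) (Quotient.mk'' (1 : V))) = 1 := by
    rw [MulAction.orbitRel.Quotient.orbit_mk]
    have : MulAction.orbit A (1 : V) = {1} := by
      ext x; simp [MulAction.mem_orbit_iff, eq_comm]
    rw [this]; simp
  have s3 : 4 ∣ ∑ ω ∈ Finset.univ.erase (Quotient.mk'' (1 : V) : MulAction.orbitRel.Quotient A V),
      Nat.card (MulAction.orbitRel.Quotient.orbit ω) := Finset.dvd_sum fun ω hω => by
    induction' ω using Quotient.inductionOn' with b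
    have b1 : b ≠ 1 := fun e => (Finset.mem_erase.mp hω).1 (e ▸ rfl)
    obtain ⟨α, hα, a1, a2⟩ := hn b b1
    obtain ⟨k, hk⟩ := hA.card_orbit b
    rw [MulAction.orbitRel.Quotient.orbit_mk, hk]
    refine pow_dvd_pow 2 (n := k) (m := 2) ?_
    have b2 : b ≠ b⁻¹ := fun e => b1 (by
      have := h3 b
      rwa [pow_succ, sq, eq_inv_iff_mul_eq_one.mp e, one_mul] at this)
    have : 2 < (MulAction.orbit A b).ncard := (Set.two_lt_ncard_iff (Set.toFinite _)).mpr
      ⟨b, b⁻¹, α b, MulAction.mem_orbit_self b,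
        ⟨⟨ι, Subgroup.mem_sup_right (Subgroup.mem_zpowers ι)⟩, hι b⟩,
        ⟨⟨α, Subgroup.mem_sup_left hα⟩, rfl⟩, b2, a1.symm, a2.symm⟩
    rw [← Nat.card_coe_set_eq, hk] at this
    by_contra k2
    have : k ≤ 1 := by omega
    interval_cases k <;> omega
  omega

theorem a3e_inv (hm : ∀ x y : V, x * y = y * x) (h3 : ∀ x : V, x ^ 3 = 1) {α β : MulAut V}
    (ha : α * α = 1) (hb : α * β = β⁻¹ * α) (hf : ∀ y, β (β y) = y → y = 1) : False := by
  obtain ⟨ι, hι⟩ : ∃ ι : MulAut V, ∀ x, ι x = x⁻¹ :=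
    ⟨MulEquiv.mk' (Equiv.inv V) fun x y => by simp [hm], fun _ => rfl⟩
  have e : ∀ y, α (β y) = β⁻¹ (α y) := fun y => MulEquiv.congr_fun hb y
  have e2 : ∀ y, α (α y) = y := fun y => MulEquiv.congr_fun ha y
  have k1 := a3e_sq hc e hf
  have k2 := a3e_sq hc (δ := ι * α) (fun y => by simp [hι, e]) hf
  have : Nat.card V ≤ Nat.card ((Fx α) × (Fx (ι * α))) :=
    Nat.card_le_card_of_injective (fun x => (⟨x * α x, show α _ = _ by simp [e2, hm]⟩,
      ⟨x * (α x)⁻¹, show (ι * α) _ = _ by simp [hι, e2]⟩)) fun x y k => by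
        have a1 : x * α x = y * α y := congrArg (fun p => (p.1 : V)) k
        have a2 : x * (α x)⁻¹ = y * (α y)⁻¹ := congrArg (fun p => (p.2 : V)) k
        have a3 : ∀ x : V, x * α x * (x * (α x)⁻¹) = x⁻¹ := fun x => by
          rw [hm x (α x)⁻¹, ← mul_assoc, mul_inv_cancel_right, eq_inv_iff_mul_eq_one, ← h3 x,
            pow_succ, sq]
        exact inv_injective (by rw [← a3, a1, a2, a3])
  rw [Nat.card_prod, hc] at this
  nlinarith

theorem a3e_aut (hm : ∀ x y : V, x * y = y * x) (h3 : ∀ x : V, x ^ 3 = 1) {E : Subgroup (MulAut V)}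
    (hE : ¬ 3 ∣ Nat.card E) :
    (∃ b : V, b ≠ 1 ∧ ∀ α ∈ E, α b = b ∨ α b = b⁻¹) ∨ ∃ u : V, ∀ α ∈ E, α u = u → α = 1 := by
  have p1 : ∀ {q : ℕ}, q.Prime → q ∣ Nat.card E → q = 2 ∨ q = 13 := fun {q} hq h => by
    haveI := Fact.mk hq
    obtain ⟨α, hα⟩ := exists_prime_orderOf_dvd_card' q h
    exact (a3e_prime hc hq ((Subgroup.orderOf_coe α).trans hα) (by rintro rfl; exact hE h)).imp id
      And.left
  by_cases h13 : 13 ∣ Nat.card E
  swap
  · exact Or.inl (a3e_two hc hm h3 (IsPGroup.of_card (Nat.eq_prime_pow_of_unique_prime_dvd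
      Nat.card_pos.ne' fun hq h => (p1 hq h).resolve_right (by rintro rfl; exact h13 h))))
  have p2 : ∀ γ ∈ E, γ ≠ 1 → ∀ u, u ≠ 1 → γ u = u →
      2 ∣ orderOf γ ∧ ∃ α ∈ E, orderOf α = 2 ∧ α u = u := fun γ hγ g1 u u1 hu => by
    obtain ⟨q, hq, q1⟩ := Nat.exists_prime_and_dvd (orderOf_eq_one_iff.not.mpr g1)
    have q2 := orderOf_pow_orderOf_div (orderOf_pos γ).ne' q1
    have q3 : (γ ^ (orderOf γ / q)) u = u :=
      pow_mem (show γ ∈ MulAction.stabilizer (MulAut V) u from hu) _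
    obtain rfl : q = 2 := (a3e_prime hc hq q2 (by
      rintro rfl
      exact hE (q1.trans (Subgroup.orderOf_dvd_natCard E hγ)))).resolve_right fun k => u1 (k.2 u q3)
    exact ⟨q1, _, pow_mem hγ _, q2, q3⟩
  haveI : Fact (Nat.Prime 13) := ⟨by norm_num⟩
  obtain ⟨P⟩ := (inferInstance : Nonempty (Sylow 13 E))
  have n1 : Nat.card (Sylow 13 E) = 1 := by
    have a1 := P.card_dvd_index
    have a2 := Nat.eq_prime_pow_of_unique_prime_dvd (n := Nat.card (Sylow 13 E)) (p := 2)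
      Nat.card_pos.ne' fun hq h => (p1 hq ((h.trans a1).trans P.1.index_dvd_card)).resolve_right
        (by rintro rfl; exact P.not_dvd_index (h.trans a1))
    have a3 := card_sylow_modEq_one 13 E
    have a4 := Nat.le_of_dvd (Nat.pos_of_ne_zero Subgroup.FiniteIndex.index_ne_zero) a1
    have a5 := Nat.le_of_dvd Nat.card_pos (P.dvd_card_of_dvd_card h13)
    have a6 := P.1.card_mul_index
    have a7 := a3e_bound hc E
    have a8 : 1 ≤ Nat.card (FixedPoints.subgroup E V) ^ 3 := Nat.one_le_pow _ _ Nat.card_pos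
    have a9 : Nat.card (Sylow 13 E) < 2 ^ 11 := by nlinarith
    generalize (Nat.card (Sylow 13 E)).primeFactorsList.length = j at a2
    rw [a2] at a3 a9 ⊢
    have := (Nat.pow_lt_pow_iff_right (by norm_num)).mp a9
    interval_cases j <;> first | rfl | exact absurd a3 (by decide)
  haveI : Subsingleton (Sylow 13 E) := (Nat.card_eq_one_iff_unique.mp n1).1
  haveI := P.normal_of_subsingleton
  have p3 : ∀ γ ∈ (P : Subgroup E), γ ≠ 1 → 13 ∣ orderOf γ ∧ ∀ u, (γ : MulAut V) u = u → u = 1 :=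
    fun γ hγ g1 => by
      obtain ⟨k, hk⟩ := (IsPGroup.iff_orderOf.mp P.isPGroup') ⟨γ, hγ⟩
      rw [Subgroup.orderOf_mk] at hk
      refine ⟨hk ▸ dvd_pow_self 13 (by rintro rfl; exact g1 (orderOf_eq_one_iff.mp hk)),
        fun u hu => by_contra fun u1 => ?_⟩
      have := (p2 γ γ.2 (fun e => g1 (Subtype.ext e)) u u1 hu).1
      rw [Subgroup.orderOf_coe, hk] at this
      exact absurd (Nat.prime_two.dvd_of_dvd_pow this) (by norm_num)
  haveI : Nontrivial V := Finite.one_lt_card_iff_nontrivial.mp (by omega)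
  obtain ⟨u, u1⟩ := exists_ne (1 : V)
  refine Or.inr ⟨u, fun γ hγ hu => by_contra fun g1 => ?_⟩
  obtain ⟨-, α, hα, a1, a2⟩ := p2 γ hγ g1 u u1 hu
  have a3 : α * α = 1 := by rw [← sq, ← a1, pow_orderOf_eq_one]
  obtain ⟨β, hβ, b1⟩ := (P.1.bot_or_exists_ne_one).resolve_left (P.ne_bot_of_dvd_card h13)
  by_cases k : (β : MulAut V) * α = α * β
  · have s1 : MulAction.stabilizer (zpowers β) u = ⊥ := eq_bot_iff.mpr fun g hg =>
      Subgroup.mem_bot.mpr (Subtype.ext (by_contra fun g1 =>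
        u1 ((p3 g (Subgroup.zpowers_le.mpr hβ g.2) g1).2 u hg)))
    have s2 := MulAction.index_stabilizer (zpowers β) u
    rw [s1, Subgroup.index_bot, Nat.card_zpowers] at s2
    have s3 : MulAction.orbit (zpowers β) u ⊆ (Fx α) := by
      rintro _ ⟨⟨_, n, rfl⟩, rfl⟩
      have : Commute ((β ^ n : E) : MulAut V) α := by
        rw [Subgroup.coe_zpow]; exact Commute.zpow_left k n
      have := MulEquiv.congr_fun this.eq u
      rw [MulAut.mul_apply, MulAut.mul_apply, a2] at this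
      exact this.symm
    have s4 := Set.ncard_le_ncard s3
    have s5 := Nat.le_of_dvd (orderOf_pos β) (p3 β hβ b1).1
    rw [← s2, ← Nat.card_coe_set_eq] at s4
    rcases a3e_sub hc (Fx α) with h | h
    · have : α = 1 := MulEquiv.ext fun x => (h ▸ Subgroup.mem_top x : x ∈ (Fx α))
      simp [this] at a1
    · have : Nat.card ((Fx α) : Set V) = Nat.card (Fx α) := rfl
      omega
  · let δ : E := β⁻¹ * (⟨α, hα⟩ * β * ⟨α, hα⟩⁻¹)
    have d1 : δ ∈ (P : Subgroup E) := mul_mem (inv_mem hβ) (Subgroup.Normal.conj_mem inferInstance β hβ _)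
    have d2 : (δ : MulAut V) = (β : MulAut V)⁻¹ * (α * β * α⁻¹) := rfl
    have d3 : δ ≠ 1 := fun e => k (by
      rw [e, Subgroup.coe_one, eq_comm, inv_mul_eq_one, eq_mul_inv_iff_mul_eq] at d2
      exact d2)
    refine a3e_inv hc hm h3 a3 (β := δ) ?_ fun y hy => (p3 (δ * δ) (mul_mem d1 d1) fun e => ?_).2 y hy
    · rw [d2, inv_eq_of_mul_eq_one_right a3]
      simp only [mul_inv_rev, inv_inv, inv_eq_of_mul_eq_one_right a3, mul_assoc]
    · have := (p3 δ d1 d3).1.trans (orderOf_dvd_of_pow_eq_one (n := 2) (by rw [sq, e]))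
      omega

end aut

variable {G : Type*} [Group G] [Finite G] {D P T F : Subgroup G} {z b : G}

theorem elem27 (hc : Nat.card D = 27) (h3 : ∀ x ∈ D, x ^ 3 = 1) (hab : D ≤ Cen D)
    (hT : T ≤ Nor D) (ho : ¬ 3 ∣ (Cen D).relIndex T) :
    (∃ b ∈ D, orderOf b = 3 ∧ T ≤ Nor (zpowers b)) ∨ ∃ u ∈ D, T ⊓ Cen (zpowers u) ≤ Cen D := by
  haveI : Fact (Nat.Prime 3) := ⟨Nat.prime_three⟩
  rcases a3e_aut hc (fun x y => Subtype.ext (H86.mem_Cen.1 (hab y.2) x x.2))
    (fun x => Subtype.ext (h3 x x.2)) (OL5.em_card hT ▸ ho) with ⟨b, b1, h⟩ | ⟨u, h⟩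
  · refine Or.inl ⟨b, b.2, orderOf_eq_prime (h3 b b.2) fun e => b1 (Subtype.ext e), fun t ht => ?_⟩
    have := h _ ⟨⟨t, hT ht⟩, ht, rfl⟩
    refine Subgroup.mem_normalizer_fintype ?_
    rintro _ ⟨n, rfl⟩
    show t * (b : G) ^ n * t⁻¹ ∈ _
    rw [← conj_zpow]
    refine zpow_mem ?_ n
    rcases this with k | k
    · rw [show t * (b : G) * t⁻¹ = b from congrArg Subtype.val k]
      exact Subgroup.mem_zpowers _
    · rw [show t * (b : G) * t⁻¹ = b⁻¹ from congrArg Subtype.val k]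
      exact inv_mem (Subgroup.mem_zpowers _)
  · refine Or.inr ⟨u, u.2, fun t ⟨ht, k⟩ => H86.mem_Cen.2 fun x hx => ?_⟩
    have := h _ ⟨⟨t, hT ht⟩, ht, rfl⟩ (Subtype.ext (by
      rw [OL5.em_val]
      exact mul_inv_eq_iff_eq_mul.2 (H86.mem_Cen_zpowers.1 k).symm))
    have := congrArg Subtype.val (MulEquiv.congr_fun this ⟨x, hx⟩)
    rw [OL5.em_val] at this
    exact (mul_inv_eq_iff_eq_mul.1 this).symm

end H85.C16
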