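import Mathlib
import Cfsg.Agent.Lib.C16.Defs
import Cfsg.Agent.Lib.OL5.GA
import Cfsg.Agent.Lib.OL5.EC

set_option autoImplicit false
set_option linter.unusedSectionVars false

namespace H85.C16

open H86 (Cen Nor)
open Subgroup (zpowers center closure)

variable {G : Type*} [Group G] [Finite G] {D P T F : Subgroup G} {z b : G}

theorem a3m_card (hS : T ≤ Nor P) :
    Nat.card ((T.subgroupOf (Nor P)).map P.normalizerMonoidHom) = (Cen P).relIndex T := by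
  rw [← Subgroup.relIndex_ker, Subgroup.normalizerMonoidHom_ker, Subgroup.relIndex_subgroupOf hS]

theorem a3m_dvd {S : Subgroup G} (hT : T ≤ Nor P) (hS : S ≤ T) :
    (Cen P).relIndex S ∣ (Cen P).relIndex T := by
  rw [← a3m_card hT, ← a3m_card (hS.trans hT)]
  exact Subgroup.card_dvd_of_le (Subgroup.map_mono fun x hx => hS hx)

theorem a3m_le {A B : Subgroup G} (hA : A ≤ F) (hB : B ≤ F) (hd : A ⊓ B = ⊥) :
    Nat.card A * Nat.card B ≤ Nat.card F := by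
  rw [← Nat.card_prod]
  refine Nat.card_le_card_of_injective
    (fun x : A × B => (⟨x.1 * x.2, mul_mem (hA x.1.2) (hB x.2.2)⟩ : F)) fun x y e => ?_
  have e1 : (x.1 : G) * x.2 = y.1 * y.2 := congrArg Subtype.val e
  have e2 : (y.1 : G)⁻¹ * x.1 = y.2 * (x.2 : G)⁻¹ := by
    rw [inv_mul_eq_iff_eq_mul, ← mul_assoc, ← e1, mul_inv_cancel_right]
  have m : (y.1 : G)⁻¹ * x.1 = 1 := Subgroup.mem_bot.1 (hd.le
    ⟨A.mul_mem (A.inv_mem y.1.2) x.1.2, e2 ▸ B.mul_mem y.2.2 (B.inv_mem x.2.2)⟩)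
  exact Prod.ext (Subtype.ext (inv_mul_eq_one.1 m).symm) (Subtype.ext (mul_inv_eq_one.1 (e2 ▸ m)).symm)

theorem a3m_dec (hD : IsPGroup 3 D) (hab : D ≤ Cen D) (hT : T ≤ Nor D) (ho : ¬ 3 ∣ (Cen D).relIndex T) :
    (D ⊓ Cen T) ⊓ ⁅D, T⁆ = ⊥ ∧ ∀ x ∈ D, ∃ c ∈ D ⊓ Cen T, ∃ n ∈ ⁅D, T⁆, x = c * n := by
  classical
  let _ : CommGroup D := { (inferInstance : Group D) with
    mul_comm := fun x y => Subtype.ext (H86.mem_Cen.1 (hab y.2) x x.2) }
  let I : Subgroup (MulAut D) := (T.subgroupOf (Nor D)).map D.normalizerMonoidHom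
  let _ := Fintype.ofFinite I
  have cI : Fintype.card I = (Cen D).relIndex T := by rw [← a3m_card hT, Nat.card_eq_fintype_card]
  let ν : D →* D := ∏ a : I, (a : MulAut D).toMonoidHom
  have hν : ∀ x, ν x = ∏ a : I, (a : MulAut D) x := fun x => MonoidHom.finsetProd_apply _ _ _
  have val : ∀ a : I, ∃ t ∈ T, ∀ x : D, (((a : MulAut D) x : D) : G) = t * x * t⁻¹ := by
    rintro ⟨_, t, ht, rfl⟩
    exact ⟨t, ht, fun _ => rfl⟩
  have ex : ∀ t ∈ T, ∃ a : I, ∀ x : D, (((a : MulAut D) x : D) : G) = t * x * t⁻¹ := fun t ht =>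
    ⟨⟨_, ⟨t, hT ht⟩, ht, rfl⟩, fun _ => rfl⟩
  have h1 : ∀ (a : I) x, ν ((a : MulAut D) x) = ν x := fun a x => by
    rw [hν, hν]
    exact Fintype.prod_equiv (Equiv.mulRight a) _ _ fun c => rfl
  have h2 : ∀ (a : I) x, (a : MulAut D) (ν x) = ν x := fun a x => by
    rw [hν, map_prod]
    exact Fintype.prod_equiv (Equiv.mulLeft a) _ _ fun c => rfl
  have cop : ∀ x : D, (Fintype.card I).Coprime (orderOf x) := fun x => by
    obtain ⟨k, hk⟩ := hD x
    rw [cI]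
    exact Nat.Coprime.coprime_dvd_right (orderOf_dvd_of_pow_eq_one hk)
      (Nat.Coprime.pow_right k ((Nat.prime_three.coprime_iff_not_dvd.2 ho).symm))
  have h4 : ⁅D, T⁆ ≤ ν.ker.map D.subtype := by
    rw [Subgroup.commutator_le]
    intro x hx t ht
    obtain ⟨a, ha⟩ := ex t ht
    refine ⟨⟨x, hx⟩ * (a : MulAut D) ⟨x, hx⟩⁻¹, ?_, ?_⟩
    · rw [SetLike.mem_coe, MonoidHom.mem_ker, map_mul, h1, map_inv, mul_inv_cancel]
    · rw [map_mul, Subgroup.coe_subtype, ha, commutatorElement_def]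
      simp only [Subgroup.coe_inv, mul_assoc]
  refine ⟨eq_bot_iff.2 ?_, fun x hx => ?_⟩
  · rintro c ⟨⟨hc, hc2⟩, hn⟩
    obtain ⟨c', h, rfl⟩ := h4 hn
    have e : ν c' = c' ^ Fintype.card I := by
      rw [hν, ← Finset.card_univ, ← Finset.prod_const]
      refine Finset.prod_congr rfl fun a _ => Subtype.ext ?_
      obtain ⟨t, ht, e⟩ := val a
      rw [e, mul_inv_eq_iff_eq_mul]
      exact H86.mem_Cen.1 hc2 t ht
    obtain ⟨k, hk⟩ := exists_pow_eq_self_of_coprime (cop c')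
    rw [← e, show ν c' = 1 from h, one_pow] at hk
    rw [← hk, map_one]
    exact Subgroup.one_mem _
  · obtain ⟨k, hk⟩ := exists_pow_eq_self_of_coprime (cop ⟨x, hx⟩)
    set y : D := ⟨x, hx⟩ ^ k with hy
    have e : y ^ Fintype.card I = ⟨x, hx⟩ := by rw [hy, ← pow_mul, mul_comm, pow_mul, hk]
    have m : ∏ a : I, (y * (a : MulAut D) y⁻¹) ∈ (⁅D, T⁆ : Subgroup G).subgroupOf D := by
      refine Subgroup.prod_mem _ fun a _ => ?_
      obtain ⟨t, ht, e⟩ := val a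
      have := Subgroup.commutator_mem_commutator y.2 ht
      rw [Subgroup.mem_subgroupOf, Subgroup.coe_mul, e]
      simpa only [commutatorElement_def, Subgroup.coe_inv, mul_assoc] using this
    rw [Finset.prod_mul_distrib, Finset.prod_const, Finset.card_univ, e, ← hν] at m
    refine ⟨ν y, ⟨(ν y).2, H86.mem_Cen.2 fun t ht => ?_⟩, _, m, ?_⟩
    · obtain ⟨a, ha⟩ := ex t ht
      rw [← mul_inv_eq_iff_eq_mul, ← ha, h2]
    · rw [Subgroup.coe_subtype, ← Subgroup.coe_mul, mul_comm _ (ν y⁻¹), ← mul_assoc, ← map_mul, mul_inv_cancel, map_one, one_mul]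

theorem a3m_omega (hab : D ≤ Cen D) (hz : z ∈ D) (hc : Nat.card D ≤ 9 * orderOf z) {A B : Subgroup G}
    (hA : A ≤ D) (hB : B ≤ D) (hd : A ⊓ B = ⊥) (a3 : ∀ x ∈ A, x ^ 3 = 1) (b3 : ∀ x ∈ B, x ^ 3 = 1) :
    Nat.card A * Nat.card B ≤ 27 := by
  let O : Subgroup G :=
    { carrier := {x | x ∈ D ∧ x ^ 3 = 1}
      one_mem' := ⟨D.one_mem, one_pow _⟩
      mul_mem' := fun {x y} h k => ⟨mul_mem h.1 k.1, by
        rw [Commute.mul_pow (H86.mem_Cen.1 (hab k.1) x h.1), h.2, k.2, one_mul]⟩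
      inv_mem' := fun {x} h => ⟨inv_mem h.1, by rw [inv_pow, h.2, inv_one]⟩ }
  refine (a3m_le (F := O) (fun x hx => ⟨hA hx, a3 x hx⟩) (fun x hx => ⟨hB hx, b3 x hx⟩) hd).trans ?_
  have e1 := ((zpowers z).subgroupOf O).card_mul_index
  have e2 := ((zpowers z).subgroupOf D).card_mul_index
  rw [Nat.card_congr (Subgroup.subgroupOfEquivOfLe (Subgroup.zpowers_le.2 hz)).toEquiv, Nat.card_zpowers] at e2
  have i1 : (zpowers z).relIndex O ≤ (zpowers z).relIndex D :=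
    Subgroup.relIndex_le_of_le_right (fun x hx => hx.1) Subgroup.index_ne_zero_of_finite
  have i2 : (zpowers z).relIndex D ≤ 9 :=
    Nat.le_of_mul_le_mul_left (e2.le.trans (hc.trans (mul_comm _ _).le)) (orderOf_pos z)
  have i3 : Nat.card ((zpowers z).subgroupOf O) ≤ 3 := by
    let f : (zpowers z).subgroupOf O →* zpowers z :=
      (O.subtype.comp ((zpowers z).subgroupOf O).subtype).codRestrict _ fun x => x.2
    have hf : Function.Injective f := fun x y e =>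
      Subtype.ext (Subtype.ext (congrArg (fun u : zpowers z => (u : G)) e))
    have := isCyclic_of_injective f hf
    obtain ⟨g, hg⟩ := IsCyclic.exists_ofOrder_eq_natCard (α := (zpowers z).subgroupOf O)
    rw [← hg]
    exact orderOf_le_of_pow_eq_one (by norm_num) (Subtype.ext (Subtype.ext g.1.2.2))
  rw [← e1]
  exact Nat.mul_le_mul i3 (i1.trans i2)

theorem mid3 (hD : IsPGroup 3 D) (hab : D ≤ Cen D) (hz : z ∈ D) (hc : Nat.card D ≤ 9 * orderOf z)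
    (hT : T ≤ Nor D) (ho : ¬ 3 ∣ (Cen D).relIndex T) (hb : b ∈ D) (h3 : orderOf b = 3)
    (hn : T ≤ Nor (zpowers b)) (hcube : ∀ x ∈ D, x ^ 3 ≠ 1 → b ∈ zpowers (x ^ 3)) :
    ∃ u ∈ D, ∃ F ≤ D, T ⊓ Cen (zpowers u) ≤ Cen F ∧ Nat.card D ≤ 3 * Nat.card F := by
  set S := T ⊓ Cen (zpowers b) with hS
  have ST : S ≤ T := inf_le_left
  obtain ⟨hd, hx⟩ := a3m_dec hD hab (ST.trans hT) fun h => ho (h.trans (a3m_dvd hT ST))
  have ND : ⁅D, S⁆ ≤ D := H2.commutator_le_of_le_normalizer (ST.trans hT)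
  have TN : T ≤ Nor ⁅D, S⁆ := H2.le_normalizer_commutator hT
    (H2.le_normalizer_inf Subgroup.le_normalizer (H2.le_normalizer_centralizer hn))
  have bC : zpowers b ≤ D ⊓ Cen S := Subgroup.zpowers_le.2
    ⟨hb, H86.mem_Cen.2 fun t ht => (H86.mem_Cen.1 ht.2 b (Subgroup.mem_zpowers b)).symm⟩
  have hd' : zpowers b ⊓ ⁅D, S⁆ = ⊥ := eq_bot_iff.2 ((inf_le_inf_right _ bC).trans hd.le)
  have b1 : b ≠ 1 := fun e => by simp [e] at h3
  have N3 : ∀ x ∈ ⁅D, S⁆, x ^ 3 = 1 := fun x hx => by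
    by_contra h
    exact b1 (Subgroup.mem_bot.1 (hd'.le ⟨Subgroup.mem_zpowers b,
      Subgroup.zpowers_le.2 (pow_mem hx 3) (hcube x (ND hx) h)⟩))
  have c9 := a3m_omega hab hz hc (Subgroup.zpowers_le.2 hb) ND hd' (by
    rintro _ ⟨k, rfl⟩
    rw [← zpow_natCast, ← zpow_mul, mul_comm, zpow_mul, zpow_natCast, ← h3, pow_orderOf_eq_one, one_zpow]) N3
  rw [Nat.card_zpowers, h3] at c9
  have cD : Nat.card D ≤ Nat.card (D ⊓ Cen S : Subgroup G) * Nat.card (⁅D, S⁆ : Subgroup G) := by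
    rw [← Nat.card_prod]
    refine Nat.card_le_card_of_surjective
      (fun x : (D ⊓ Cen S : Subgroup G) × (⁅D, S⁆ : Subgroup G) =>
        (⟨x.1 * x.2, mul_mem x.1.2.1 (ND x.2.2)⟩ : D)) fun x => ?_
    obtain ⟨c, hc, n, hn, e⟩ := hx x x.2
    exact ⟨(⟨c, hc⟩, ⟨n, hn⟩), Subtype.ext e.symm⟩
  have SC : S ≤ Cen (D ⊓ Cen S : Subgroup G) := fun t ht =>
    H86.mem_Cen.2 fun c hc => (H86.mem_Cen.1 hc.2 t ht).symm
  by_cases h : ⁅D, S⁆ = ⊥
  · rw [h, Subgroup.card_bot] at cD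
    exact ⟨b, hb, _, inf_le_left, SC, by omega⟩
  obtain ⟨⟨w, hw⟩, w1⟩ := Subgroup.ne_bot_iff_exists_ne_one.1 h
  have w1' : w ≠ 1 := fun e => w1 (Subtype.ext e)
  have wN : zpowers w ≤ ⁅D, S⁆ := Subgroup.zpowers_le.2 hw
  refine ⟨b * w, mul_mem hb (ND hw), (D ⊓ Cen S) ⊔ zpowers w, sup_le inf_le_left (wN.trans ND),
    fun t ht => ?_, ?_⟩
  · have k := OL5.stab_mul hn TN hd' (Subgroup.mem_zpowers b) hw ht
    have : (D ⊓ Cen S) ⊔ zpowers w ≤ Cen (zpowers t) := by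
      refine sup_le (fun c hc => ?_) fun c hc => ?_
      · exact Subgroup.le_centralizer_iff.1 (Subgroup.zpowers_le.2 (SC ⟨ht.1, k.1⟩)) hc
      · exact Subgroup.le_centralizer_iff.1 (Subgroup.zpowers_le.2 k.2) hc
    exact Subgroup.le_centralizer_iff.1 this (Subgroup.mem_zpowers t)
  · have := Fact.mk Nat.prime_three
    have c3 := a3m_le (F := (D ⊓ Cen S) ⊔ zpowers w) le_sup_left le_sup_right
      (eq_bot_iff.2 ((inf_le_inf_left _ wN).trans hd.le))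
    rw [Nat.card_zpowers, orderOf_eq_prime (N3 w hw) w1'] at c3
    nlinarith

end H85.C16
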