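import Mathlib
import Cfsg.Agent.Lib.C16.Defs
import Cfsg.Agent.Lib.OL5.GA

set_option autoImplicit false
set_option linter.unusedSectionVars false

namespace H85.C16

open H86 (Cen Nor)
open Subgroup (zpowers center closure)

variable {G : Type*} [Group G] [Finite G] {D P T F : Subgroup G} {z b : G}

theorem a3s_pow (hT : T ≤ Nor D) {t : G} (ht : t ∈ T) : t ^ (Cen D).relIndex T ∈ Cen D := by
  haveI : ((Cen D).subgroupOf T).Normal :=
    Subgroup.normal_subgroupOf_of_le_normalizer (hT.trans (H86.Nor_le_Nor_Cen D))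
  exact ((Cen D).subgroupOf T).pow_index_mem ⟨t, ht⟩

theorem a3s_cos (hD : IsPGroup 3 D) (hab : D ≤ Cen D) (hF : F ≤ D) (hi : Nat.card D ≤ 3 * Nat.card F)
    {x : G} (hx : x ∈ D) (hx' : x ∉ F) : x ^ 3 ∈ F ∧ ∀ y ∈ D, y ∈ F ∨ x⁻¹ * y ∈ F ∨ x * y ∈ F := by
  classical
  haveI : Fact (Nat.Prime 3) := ⟨Nat.prime_three⟩
  haveI := OL5.ga_ab hab
  haveI : (F.subgroupOf D).Normal := ⟨fun a ha g => by
    rwa [show g * a = a * g from Subtype.ext (hab a.2 g g.2), mul_inv_cancel_right]⟩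
  have h3 := H1.card_mul_relIndex_of_le hF
  have h4 : F.relIndex D ≤ 3 := Nat.le_of_mul_le_mul_left (by rw [h3, mul_comm]; exact hi) Nat.card_pos
  obtain ⟨n, hn⟩ := hD.index (F.subgroupOf D)
  have h5 : (F.subgroupOf D).index = 3 := by
    rcases n with _ | _ | n
    · exact absurd (Subgroup.relIndex_eq_one.1 hn hx) hx'
    · exact hn
    · rw [Subgroup.relIndex, hn, pow_succ, pow_succ] at h4
      have : 0 < 3 ^ n := by positivity
      omega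
  have p3 : x ^ 3 ∈ F := by
    have := (F.subgroupOf D).pow_index_mem ⟨x, hx⟩
    rwa [h5] at this
  refine ⟨p3, fun y hy => ?_⟩
  have hne : ((⟨x, hx⟩ : D) : D ⧸ F.subgroupOf D) ≠ 1 := fun e =>
    hx' ((QuotientGroup.eq_one_iff (N := F.subgroupOf D) (⟨x, hx⟩ : D)).1 e)
  have ho : orderOf ((⟨x, hx⟩ : D) : D ⧸ F.subgroupOf D) = 3 :=
    orderOf_eq_prime (by rw [← h5]; exact pow_card_eq_one') hne
  have hm := mem_zpowers_of_prime_card (g' := ((⟨y, hy⟩ : D) : D ⧸ F.subgroupOf D)) (p := 3) h5 hne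
  rw [mem_zpowers_iff_mem_range_orderOf, ho, Finset.mem_image] at hm
  obtain ⟨k, hk, e⟩ := hm
  rw [← QuotientGroup.mk_pow, QuotientGroup.eq] at e
  have e : (x ^ k)⁻¹ * y ∈ F := e
  have hk := Finset.mem_range.1 hk
  interval_cases k
  · exact Or.inl (by simpa using e)
  · exact Or.inr (Or.inl (by simpa using e))
  · refine Or.inr (Or.inr ?_)
    have := mul_mem p3 e
    rwa [show x ^ 3 * ((x ^ 2)⁻¹ * y) = x * y by group] at this

theorem small3 (hD : IsPGroup 3 D) (hab : D ≤ Cen D) (hT : T ≤ Nor D)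
    (ho : ¬ 3 ∣ (Cen D).relIndex T) (hF : F ≤ D) (hTF : T ≤ Cen F)
    (hi : Nat.card D ≤ 3 * Nat.card F) : T ≤ Cen D ∨ ∃ N w, WG D T N w := by
  classical
  haveI : Fact (Nat.Prime 3) := ⟨Nat.prime_three⟩
  have hc : ∀ a ∈ D, ∀ b ∈ D, a * b = b * a := fun a ha b hb => H86.mem_Cen.1 (hab hb) a ha
  have fx : ∀ t ∈ T, ∀ f ∈ F, t * f * t⁻¹ = f := fun t ht f hf => by
    rw [← H86.mem_Cen.1 (hTF ht) f hf, mul_inv_cancel_right]
  have cj : ∀ t ∈ T, ∀ x ∈ D, t * x * t⁻¹ ∈ D := fun t ht x hx => (H86.mem_Nor.1 (hT ht) x).1 hx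
  have one : ∀ f ∈ D, ∀ m, ¬ 3 ∣ m → f ^ m = 1 → f = 1 := fun f hf m hm e => by
    obtain ⟨k, hk⟩ := hD ⟨f, hf⟩
    have hk : f ^ 3 ^ k = 1 := congrArg Subtype.val hk
    have := Nat.dvd_gcd (orderOf_dvd_of_pow_eq_one hk) (orderOf_dvd_of_pow_eq_one e)
    rwa [Nat.Coprime.pow_left k ((Nat.Prime.coprime_iff_not_dvd Nat.prime_three).2 hm), Nat.dvd_one,
      orderOf_eq_one_iff] at this
  have hB : ∀ t ∈ T, ∀ x ∈ D, x ∉ F → x⁻¹ * (t * x * t⁻¹) ∈ F → t ∈ Cen D := by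
    intro t ht x hx hx' h
    obtain ⟨f, hf, e⟩ : ∃ f ∈ F, t * x * t⁻¹ = x * f := ⟨_, h, by group⟩
    have hk : ∀ k : ℕ, t ^ k * x * (t ^ k)⁻¹ = x * f ^ k := fun k => by
      induction k with
      | zero => simp
      | succ k ih =>
        calc t ^ (k + 1) * x * (t ^ (k + 1))⁻¹ = t * (t ^ k * x * (t ^ k)⁻¹) * t⁻¹ := by group
          _ = (t * x * t⁻¹) * (t * f ^ k * t⁻¹) := by rw [ih]; group
          _ = _ := by rw [e, fx t ht _ (pow_mem hf k)]; group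
    have h1 := hk ((Cen D).relIndex T)
    rw [← H86.mem_Cen.1 (a3s_pow hT ht) x hx, mul_inv_cancel_right, left_eq_mul] at h1
    rw [one f (hF hf) _ ho h1, mul_one] at e
    have cx : Commute x t := (mul_inv_eq_iff_eq_mul.1 e).symm
    have cf : ∀ f ∈ F, Commute f t := fun f hf => H86.mem_Cen.1 (hTF ht) f hf
    refine H86.mem_Cen.2 fun y hy => ?_
    rcases (a3s_cos hD hab hF hi hx hx').2 y hy with h | h | h
    · exact cf y h
    · simpa using (cx.mul_left (cf _ h)).eq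
    · simpa using (cx.inv_left.mul_left (cf _ h)).eq
  have hC : ∀ t ∈ T, t ∉ Cen D → ∀ x ∈ D, x ∉ F → x * (t * x * t⁻¹) ∈ F := by
    intro t ht ht' x hx hx'
    rcases (a3s_cos hD hab hF hi hx hx').2 _ (cj t ht x hx) with h | h | h
    · have := fx t⁻¹ (inv_mem ht) _ h
      rw [show t⁻¹ * (t * x * t⁻¹) * t⁻¹⁻¹ = x by group] at this
      exact absurd (this ▸ h) hx'
    · exact absurd (hB t ht x hx hx' h) ht'
    · exact h
  by_cases h0 : T ≤ Cen D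
  · exact Or.inl h0
  obtain ⟨t0, ht0, ht0'⟩ := SetLike.not_le_iff_exists.1 h0
  obtain ⟨x, hx, hx'⟩ := SetLike.not_le_iff_exists.1 (show ¬ D ≤ F from fun h => h0 (hTF.trans (H86.Cen_anti h)))
  obtain ⟨w, hw, hw', e⟩ : ∃ w ∈ D, w ∉ F ∧ t0 * w * t0⁻¹ = w⁻¹ := by
    refine ⟨x⁻¹ * (t0 * x * t0⁻¹), mul_mem (inv_mem hx) (cj t0 ht0 x hx), fun h => ht0' (hB t0 ht0 x hx hx' h), ?_⟩
    have h1 := fx t0 ht0 _ (hC t0 ht0 ht0' x hx hx')
    have h2 := hc x hx _ (cj t0 ht0 x hx)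
    generalize hy : t0 * x * t0⁻¹ = y at h1 h2 ⊢
    have h3 : t0 * y * t0⁻¹ = x := by
      rw [show t0 * (x * y) * t0⁻¹ = (t0 * x * t0⁻¹) * (t0 * y * t0⁻¹) by group, hy, h2] at h1
      exact mul_left_cancel h1
    rw [show t0 * (x⁻¹ * y) * t0⁻¹ = (t0 * x * t0⁻¹)⁻¹ * (t0 * y * t0⁻¹) by group, hy, h3]
    group
  have w3 : w ^ 3 = 1 := by
    have h1 := fx t0 ht0 _ (a3s_cos hD hab hF hi hw hw').1
    rw [← conj_pow, e] at h1
    refine one _ (pow_mem hw 3) 2 (by decide) ?_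
    rw [pow_two]; nth_rewrite 1 [← h1]; group
  have hN : ∀ v ∈ zpowers w, v ≠ 1 → v = w ∨ v = w⁻¹ := fun v hv h1 => by
    rw [mem_zpowers_iff_mem_range_orderOf, orderOf_eq_prime w3 (fun h => hw' (h ▸ one_mem F)),
      Finset.mem_image] at hv
    obtain ⟨k, hk, rfl⟩ := hv
    have hk := Finset.mem_range.1 hk
    interval_cases k
    · exact absurd (pow_zero w) h1
    · exact Or.inl (pow_one w)
    · exact Or.inr (eq_inv_of_mul_eq_one_left (by rw [← pow_succ, w3]))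
  have hE : ∀ t ∈ T, t ∉ Cen D → t * w * t⁻¹ = w⁻¹ := fun t ht ht' => by
    have h1 := hC t ht ht' w hw hw'
    have h2 := hB _ (mul_mem (inv_mem ht0) ht) w hw hw' (by
      rw [← fx _ (inv_mem ht0) _ h1] at h1
      have e' : t0⁻¹ * w * t0 = w⁻¹ := by
        rw [eq_inv_iff_mul_eq_one, show t0⁻¹ * w * t0 * w = t0⁻¹ * (w * (t0 * w * t0⁻¹)) * t0 by group, e]
        group
      rwa [show t0⁻¹ * (w * (t * w * t⁻¹)) * t0⁻¹⁻¹ = (t0⁻¹ * w * t0) * (t0⁻¹ * t * w * (t0⁻¹ * t)⁻¹) by group,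
        e'] at h1)
    rw [← e, show t * w * t⁻¹ = t0 * (t0⁻¹ * t * w) * t⁻¹ by group, ← H86.mem_Cen.1 h2 w hw]
    group
  have mw := Subgroup.mem_zpowers w
  refine Or.inr ⟨zpowers w, w, Subgroup.zpowers_le.2 hw, mw, fun h => hw' (h ▸ one_mem F), fun t ht u hu => ?_,
    fun v hv h1 => ?_, fun t ht v hv h1 h => ?_⟩
  · by_cases ht' : t ∈ Cen D
    · rw [← H86.mem_Cen.1 ht' u hu, mul_inv_cancel_right, inv_mul_cancel]
      exact one_mem _
    have e1 := hE t ht ht'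
    rcases (a3s_cos hD hab hF hi hw hw').2 u hu with h | h | h
    · rw [fx t ht u h, inv_mul_cancel]
      exact one_mem _
    · obtain ⟨f, hf, rfl⟩ : ∃ f ∈ F, u = f * w := ⟨_, h, by rw [hc _ (inv_mem hw) u hu]; group⟩
      rw [show t * (f * w) * t⁻¹ = (t * f * t⁻¹) * (t * w * t⁻¹) by group, fx t ht f hf, e1,
        show (f * w)⁻¹ * (f * w⁻¹) = w⁻¹ * w⁻¹ by group]
      exact mul_mem (inv_mem mw) (inv_mem mw)
    · obtain ⟨f, hf, rfl⟩ : ∃ f ∈ F, u = f * w⁻¹ := ⟨_, h, by rw [hc _ hw u hu]; group⟩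
      rw [show t * (f * w⁻¹) * t⁻¹ = (t * f * t⁻¹) * (t * w * t⁻¹)⁻¹ by group, fx t ht f hf, e1,
        show (f * w⁻¹)⁻¹ * (f * w⁻¹⁻¹) = w * w by group]
      exact mul_mem mw mw
  · rcases hN v hv h1 with rfl | rfl
    · exact ⟨1, one_mem T, by group⟩
    · exact ⟨t0, ht0, e⟩
  · refine hB t ht v (Subgroup.zpowers_le.2 hw hv) ?_ (by rw [h, inv_mul_cancel]; exact one_mem F)
    rcases hN v hv h1 with rfl | rfl
    · exact hw'
    · exact fun h => hw' (inv_mem_iff.1 h)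

end H85.C16
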