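import Mathlib
import Cfsg.Agent.Lib.C16.A3S
import Cfsg.Agent.Lib.C16.A3M
import Cfsg.Agent.Lib.C16.A3E

set_option autoImplicit false
set_option linter.unusedSectionVars false

namespace H85.C16

open H86 (Cen Nor)
open Subgroup (zpowers center closure)

variable {G : Type*} [Group G] [Finite G] {D P T F : Subgroup G} {z b : G}

theorem a3_rel {T' : Subgroup G} (hT : T ≤ Nor D) (h : T' ≤ T) :
    (Cen D).relIndex T' ∣ (Cen D).relIndex T := by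
  haveI : ((Cen D).subgroupOf T).Normal := ⟨fun n hn g => by
    rw [Subgroup.mem_subgroupOf] at hn ⊢
    refine H86.mem_Cen.2 fun q hq => ?_
    have h1 := H86.mem_Cen.1 hn _ ((H86.mem_Nor.1 (inv_mem (hT g.2)) q).1 hq)
    simp only [Subgroup.coe_mul, Subgroup.coe_inv]
    calc _ = (g : G) * ((g : G)⁻¹ * q * (g : G)⁻¹⁻¹ * n) * (g : G)⁻¹ := by group
      _ = _ := by rw [h1]; group⟩
  rw [← Subgroup.relIndex_subgroupOf h]
  exact Subgroup.relIndex_dvd_index_of_normal _ _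

theorem a3_two {A : Type*} [CommGroup A] (z : A) [h : IsCyclic (A ⧸ zpowers z)] :
    ∃ x y : A, closure {x, y} = ⊤ := by
  obtain ⟨g, hg⟩ := IsCyclic.exists_generator (α := A ⧸ zpowers z)
  obtain ⟨x, rfl⟩ := QuotientGroup.mk_surjective g
  refine ⟨x, z, eq_top_iff.2 fun a _ => ?_⟩
  obtain ⟨k, hk⟩ := Subgroup.mem_zpowers_iff.1 (hg a)
  rw [← QuotientGroup.mk_zpow, QuotientGroup.eq] at hk
  rw [← mul_inv_cancel_left (x ^ k) a]
  exact mul_mem (zpow_mem (Subgroup.subset_closure (by simp)) k)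
    ((Subgroup.zpowers_le.2 (Subgroup.subset_closure (by simp))) hk)

theorem a3_cube {A : Type*} [CommGroup A] [Finite A] (hA : IsPGroup 3 A) {z : A}
    (hc : Nat.card A ≤ 9 * orderOf z) (n : ¬ ∃ x y : A, closure {x, y} = ⊤) (x : A) :
    x ^ 3 ∈ zpowers z := by
  haveI : Fact (Nat.Prime 3) := ⟨Nat.prime_three⟩
  by_contra h
  rw [← QuotientGroup.eq_one_iff, QuotientGroup.mk_pow] at h
  have h1 := Subgroup.card_eq_card_quotient_mul_card_subgroup (zpowers z)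
  rw [Nat.card_zpowers] at h1
  have h2 : Nat.card (A ⧸ zpowers z) ≤ 9 := Nat.le_of_mul_le_mul_right (h1 ▸ hc) (orderOf_pos z)
  obtain ⟨k, hk⟩ := IsPGroup.iff_orderOf.1 (hA.to_quotient (zpowers z)) (x : A ⧸ zpowers z)
  have h3 : 2 ≤ k := by
    by_contra hl
    exact h (orderOf_dvd_iff_pow_eq_one.1 (hk ▸ pow_dvd_pow 3 (show k ≤ 1 by omega)))
  have h4 : 3 ^ 2 ≤ 3 ^ k := Nat.pow_le_pow_right (by decide) h3
  haveI := isCyclic_of_orderOf_eq_card (x : A ⧸ zpowers z)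
    (le_antisymm orderOf_le_card (by omega))
  exact n (a3_two z)

theorem a3_card {A : Type*} [CommGroup A] [Finite A] (hA : IsPGroup 3 A) (h3 : ∀ x : A, x ^ 3 = 1)
    (hc : Nat.card A ≤ 27) (n : ¬ ∃ x y : A, closure {x, y} = ⊤) : Nat.card A = 27 := by
  haveI : Fact (Nat.Prime 3) := ⟨Nat.prime_three⟩
  obtain h | h := subsingleton_or_nontrivial A
  · exact absurd ⟨1, 1, Subsingleton.elim _ _⟩ n
  obtain ⟨a, ha⟩ := exists_ne (1 : A)
  have h1 := Subgroup.card_eq_card_quotient_mul_card_subgroup (zpowers a)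
  rw [Nat.card_zpowers, orderOf_eq_prime (h3 a) ha] at h1
  obtain ⟨k, hk⟩ := IsPGroup.iff_card.1 (hA.to_quotient (zpowers a))
  have h2 : 2 ≤ k := by
    by_contra hl
    haveI := isCyclic_of_card_dvd_prime (p := 3) (hk ▸ pow_dvd_pow 3 (show k ≤ 1 by omega))
    exact n (a3_two a)
  have h4 : 3 ^ 2 ≤ 3 ^ k := Nat.pow_le_pow_right (by decide) h2
  omega

theorem a3_ord {k : ℕ} (h : orderOf z = 3 ^ (k + 1)) : orderOf (z ^ 3 ^ k) = 3 := by
  rw [orderOf_pow_of_dvd (by positivity) (h ▸ pow_dvd_pow 3 k.le_succ), h, pow_succ,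
    Nat.mul_div_cancel_left _ (by positivity)]

theorem a3_mem {k : ℕ} (h : orderOf z = 3 ^ (k + 1)) {y : G} (hy : y ∈ zpowers z) (e : y ^ 3 = 1) :
    y ∈ zpowers (z ^ 3 ^ k) := by
  obtain ⟨i, rfl⟩ := (Submonoid.mem_powers_iff _ _).1 (mem_powers_iff_mem_zpowers.2 hy)
  rw [← pow_mul, ← orderOf_dvd_iff_pow_eq_one, h, pow_succ] at e
  obtain ⟨j, rfl⟩ := Nat.dvd_of_mul_dvd_mul_right (by decide) e
  rw [pow_mul]
  exact Subgroup.npow_mem_zpowers _ _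

theorem a3_mem' {k : ℕ} (h : orderOf z = 3 ^ (k + 1)) {c : G} (hc : c ∈ zpowers z) (e : c ≠ 1) :
    z ^ 3 ^ k ∈ zpowers c := by
  obtain ⟨j, -, hj⟩ := (Nat.dvd_prime_pow Nat.prime_three).1 (h ▸ orderOf_dvd_of_mem_zpowers hc)
  obtain _ | j := j
  · exact absurd (orderOf_eq_one_iff.1 hj) e
  have h1 := a3_ord hj
  have h2 := a3_mem h (pow_mem hc (3 ^ j)) (orderOf_dvd_iff_pow_eq_one.1 h1.dvd)
  have h3 : zpowers (c ^ 3 ^ j) = zpowers (z ^ 3 ^ k) :=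
    Subgroup.eq_of_le_of_card_ge (Subgroup.zpowers_le.2 h2)
      (by rw [Nat.card_zpowers, Nat.card_zpowers, h1, a3_ord h])
  exact Subgroup.zpowers_le.2 (Subgroup.npow_mem_zpowers c (3 ^ j)) (h3.ge (Subgroup.mem_zpowers _))

theorem ab3 (hD : IsPGroup 3 D) (hab : D ≤ Cen D) (hz : z ∈ D) (hc : Nat.card D ≤ 9 * orderOf z)
    (hT : T ≤ Nor D) (ho : ¬ 3 ∣ (Cen D).relIndex T) :
    (∃ x y : D, closure {x, y} = ⊤) ∨ ∃ u ∈ D, T ⊓ Cen (zpowers u) ≤ Cen D ∨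
      ∃ N w, WG D (T ⊓ Cen (zpowers u)) N w := by
  haveI : Fact (Nat.Prime 3) := ⟨Nat.prime_three⟩
  refine or_iff_not_imp_left.2 fun n => ?_
  letI : CommGroup D := { (inferInstance : Group D) with
    mul_comm := fun a b => Subtype.ext (H86.mem_Cen.1 (hab b.2) a a.2) }
  have fin : ∀ b ∈ D, orderOf b = 3 → T ≤ Nor (zpowers b) → (∀ x ∈ D, x ^ 3 ≠ 1 → b ∈ zpowers (x ^ 3)) →
      ∃ u ∈ D, T ⊓ Cen (zpowers u) ≤ Cen D ∨ ∃ N w, WG D (T ⊓ Cen (zpowers u)) N w := fun b h1 h2 h3 h4 => by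
    obtain ⟨u, hu, F, hF, k1, k2⟩ := mid3 hD hab hz hc hT ho h1 h2 h3 h4
    exact ⟨u, hu, small3 hD hab (inf_le_left.trans hT) (fun k => ho (k.trans (a3_rel hT inf_le_left))) hF k1 k2⟩
  by_cases h3 : ∀ x ∈ D, x ^ 3 = 1
  · have h1 : orderOf z ≤ 3 := orderOf_le_of_pow_eq_one (by decide) (h3 z hz)
    have h2 := a3_card hD (fun x => Subtype.ext (h3 x x.2)) (by omega) n
    rcases elem27 h2 h3 hab hT ho with ⟨b, k1, k2, k3⟩ | ⟨u, k1, k2⟩
    · exact fin b k1 k2 k3 fun x hx e => absurd (h3 x hx) e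
    · exact ⟨u, k1, Or.inl k2⟩
  push Not at h3
  obtain ⟨x, hx, ex⟩ := h3
  have cube : ∀ y ∈ D, y ^ 3 ∈ zpowers z := fun y hy => by
    obtain ⟨k, hk⟩ := Subgroup.mem_zpowers_iff.1
      (a3_cube hD (z := ⟨z, hz⟩) (by rwa [Subgroup.orderOf_mk]) n ⟨y, hy⟩)
    exact ⟨k, congrArg Subtype.val hk⟩
  obtain ⟨k, hk⟩ := IsPGroup.iff_orderOf.1 hD ⟨z, hz⟩
  rw [Subgroup.orderOf_mk] at hk
  obtain _ | k := k
  · have := cube x hx
    rw [orderOf_eq_one_iff.1 hk, Subgroup.zpowers_one_eq_bot] at this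
    exact absurd this ex
  refine fin (z ^ 3 ^ k) (pow_mem hz _) (a3_ord hk) (fun t ht => ?_) fun y hy e => a3_mem' hk (cube y hy) e
  refine Subgroup.mem_normalizer_fintype fun y hy => ?_
  have h1 : y ^ 3 = 1 := orderOf_dvd_iff_pow_eq_one.1 (a3_ord hk ▸ orderOf_dvd_of_mem_zpowers hy)
  obtain ⟨m, rfl⟩ := Subgroup.mem_zpowers_iff.1 (Subgroup.zpowers_le.2 (a3_mem' hk (cube x hx) ex) hy)
  refine a3_mem hk ?_ (by rw [conj_pow, h1, mul_one, mul_inv_cancel])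
  rw [← conj_zpow, ← conj_pow]
  exact zpow_mem (cube _ ((H86.mem_Nor.1 (hT ht) x).1 hx)) m

end H85.C16
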