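import Mathlib
import Cfsg.Agent.Lib.C16.Defs
import Cfsg.Agent.Lib.OL5.GA
import Cfsg.Agent.Lib.OL5.GB

set_option autoImplicit false
set_option linter.unusedSectionVars false

namespace H85.C16

open H86 (Cen Nor)
open Subgroup (zpowers center closure)

variable {D K : Type*} [Group D] [Finite D] [Group K] {φ : D →* K} {y : D} {α : MulAut D}

theorem c4_one (hD : IsPGroup 2 D) (ho : ¬ 2 ∣ orderOf α) {x w : D} (h1 : α x = w * x) (h2 : α w = w) :
    w = 1 := by
  have key : ∀ i : ℕ, (α ^ i) x = w ^ i * x := by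
    intro i
    induction i with
    | zero => simp
    | succ i ih => rw [pow_succ', MulAut.mul_apply, ih, map_mul, map_pow, h1, h2, pow_succ, mul_assoc]
  have e := key (orderOf α)
  rw [pow_orderOf_eq_one, MulAut.one_apply, right_eq_mul] at e
  obtain ⟨k, hk⟩ := hD w
  have c : (orderOf α).Coprime (2 ^ k) :=
    (((Nat.Prime.coprime_iff_not_dvd Nat.prime_two).2 ho).symm).pow_right k
  exact orderOf_eq_one_iff.1 (Nat.eq_one_of_dvd_coprimes c (orderOf_dvd_of_pow_eq_one e)
    (orderOf_dvd_of_pow_eq_one hk))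

theorem c4_fix (hD : IsPGroup 2 D) (ho : ¬ 2 ∣ orderOf α) {B : Subgroup D} (h4 : Nat.card B = 4)
    (hB : ∀ x ∈ B, α x ∈ B) {a : D} (ha : a ∈ B) (a1 : a ≠ 1) (hf : α a = a) : ∀ x ∈ B, α x = x := by
  have le : zpowers a ≤ B := Subgroup.zpowers_le.2 ha
  have fx : ∀ w ∈ zpowers a, α w = w := by
    rintro _ ⟨k, rfl⟩
    simp only [map_zpow, hf]
  intro x hx
  by_cases h : x ∈ zpowers a
  · exact fx x h
  have h' : α x ∉ zpowers a := fun k => h (α.injective (fx _ k) ▸ k)
  have c := Subgroup.card_mul_index ((zpowers a).subgroupOf B)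
  rw [Nat.card_congr (Subgroup.subgroupOfEquivOfLe le).toEquiv, h4] at c
  have c1 : 1 < Nat.card (zpowers a) :=
    (Subgroup.one_lt_card_iff_ne_bot _).2 (by simpa using a1)
  have c2 : ((zpowers a).subgroupOf B).index ≠ 1 := fun e =>
    h (Subgroup.subgroupOf_eq_top.1 (Subgroup.index_eq_one.1 e) hx)
  have c3 : ((zpowers a).subgroupOf B).index = 2 := by
    have : ((zpowers a).subgroupOf B).index ≤ 2 := by nlinarith
    have : ((zpowers a).subgroupOf B).index ≠ 0 := fun e => by simp [e] at c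
    omega
  have m : α x * x⁻¹ ∈ zpowers a :=
    (Subgroup.mul_mem_iff_of_index_two c3 (a := ⟨_, hB x hx⟩) (b := ⟨_, inv_mem hx⟩)).2
      (iff_of_false h' fun k => h (inv_mem_iff.1 k))
  have := c4_one hD ho (x := x) (inv_mul_cancel_right _ _).symm (fx _ m)
  exact mul_inv_eq_one.1 this

theorem c4_ind {P : Type*} [Group P] (π : D →* P) (hs : Function.Surjective π) (ho : ¬ 2 ∣ orderOf α)
    (h : ∀ x, π x = 1 ↔ π (α x) = 1) :
    ∃ β : MulAut P, (∀ x, β (π x) = π (α x)) ∧ ¬ 2 ∣ orderOf β := by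
  have : Finite P := Finite.of_surjective π hs
  let f : P →* P := π.liftOfRightInverse _ (Function.rightInverse_surjInv hs)
    ⟨π.comp α.toMonoidHom, fun x hx => (h x).1 hx⟩
  have hf : ∀ x, f (π x) = π (α x) := fun x => π.liftOfRightInverse_comp_apply _ _ _ x
  have fi : Function.Injective f := (injective_iff_map_eq_one f).2 fun p hp => by
    obtain ⟨x, rfl⟩ := hs p
    exact (h x).2 (hf x ▸ hp)
  let β : MulAut P := MulEquiv.ofBijective f (Finite.injective_iff_bijective.1 fi)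
  have hβ : ∀ x, β (π x) = π (α x) := hf
  have key : ∀ (i : ℕ) x, (β ^ i) (π x) = π ((α ^ i) x) := by
    intro i
    induction i with
    | zero => simp
    | succ i ih => intro x; rw [pow_succ', pow_succ', MulAut.mul_apply, MulAut.mul_apply, ih, hβ]
  refine ⟨β, hβ, fun k => ho (k.trans (orderOf_dvd_of_pow_eq_one (MulEquiv.ext fun p => ?_)))⟩
  obtain ⟨x, rfl⟩ := hs p
  rw [key, pow_orderOf_eq_one]
  rfl

theorem c4_cen {x : D} : x ∈ center D ↔ α x ∈ center D := by
  simp only [Subgroup.mem_center_iff]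
  constructor
  · intro h g
    obtain ⟨g, rfl⟩ := α.surjective g
    rw [← map_mul, h, map_mul]
  · intro h g
    apply α.injective
    rw [map_mul, h, map_mul]

theorem c4_sixteen (hD : IsPGroup 2 D) (h16 : Nat.card D = 16) (h4 : Nat.card (center D) = 4)
    (ho : ¬ 2 ∣ orderOf α) (hn : ∃ x, α x ≠ x) :
    (∃ a b : D, a * b * a⁻¹ * b⁻¹ ≠ 1 ∧ a * b * a⁻¹ * b⁻¹ ∈ center D) ∧ (∀ z ∈ center D, α z = z) ∧
      ∀ d : D, ∃ x, (x / α x)⁻¹ * d ∈ center D := by
  have i4 : (center D).index = 4 := by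
    have := Subgroup.card_mul_index (center D)
    rw [h4, h16] at this
    omega
  have c2 := OL5.card_comm_of_index_center hD i4
  have cz := OL5.comm_le_center hD c2
  obtain ⟨-, nc⟩ := OL5.gb_nc (D := D) (by omega)
  push Not at nc
  obtain ⟨a, b, hab⟩ := nc
  have n1 : a * b * a⁻¹ * b⁻¹ ≠ 1 := fun e => hab (by rwa [mul_inv_eq_one, mul_inv_eq_iff_eq_mul] at e)
  have m1 := OL5.gb_comm a b
  have f1 : α (a * b * a⁻¹ * b⁻¹) = a * b * a⁻¹ * b⁻¹ := by
    obtain ⟨t, -, ht⟩ := (Nat.card_eq_two_iff' (1 : commutator D)).1 c2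
    have m2 : α (a * b * a⁻¹ * b⁻¹) ∈ commutator D := by
      simpa using OL5.gb_comm (α a) (α b)
    have e1 := ht ⟨_, m1⟩ fun e => n1 (congrArg Subtype.val e)
    have e2 := ht ⟨_, m2⟩ fun e => n1 (α.map_eq_one_iff.1 (congrArg Subtype.val e))
    exact congrArg Subtype.val (e2.trans e1.symm)
  have fz := c4_fix hD ho h4 (fun x => c4_cen.1) (cz m1) n1 f1
  refine ⟨⟨a, b, n1, cz m1⟩, fz, fun d => ?_⟩
  obtain ⟨γ, hγ, oγ⟩ := c4_ind (QuotientGroup.mk' (center D)) (QuotientGroup.mk'_surjective _) ho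
    fun x => by simpa using c4_cen
  have fp : MonoidHom.FixedPointFree γ := fun q hq => by
    by_contra q1
    have t := c4_fix (hD.to_quotient _) oγ (B := ⊤) (by rw [Subgroup.card_top]; exact i4)
      (fun _ _ => trivial) (Subgroup.mem_top q) q1 hq
    obtain ⟨x, hx⟩ := hn
    have e := t (QuotientGroup.mk' _ x) trivial
    rw [hγ] at e
    have m : x⁻¹ * α x ∈ center D := QuotientGroup.eq.1 e.symm
    have := c4_one hD ho (x := x) (w := x⁻¹ * α x)
      (by rw [← Subgroup.mem_center_iff.1 m, mul_inv_cancel_left]) (fz _ m)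
    exact hx (inv_mul_eq_one.1 this).symm
  obtain ⟨q, hq⟩ := fp.commutatorMap_surjective (QuotientGroup.mk' _ d)
  obtain ⟨x, rfl⟩ := QuotientGroup.mk'_surjective _ q
  rw [MonoidHom.commutatorMap_apply, hγ, ← map_div] at hq
  exact ⟨x, QuotientGroup.eq.1 hq⟩

theorem center_four (hD : IsPGroup 2 D) (hy : y ∈ center D) (hk : φ.ker = zpowers y)
    (h16 : Nat.card φ.range = 16)
    (h4 : Nat.card (φ.range ⊓ Cen φ.range : Subgroup K) = 4) (ho : ¬ 2 ∣ orderOf α)
    (hα : α y = y) (hn : ∃ x, φ (α x) ≠ φ x) : (center D).index = 4 := by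
  set π := φ.rangeRestrict with hπ
  have hs : Function.Surjective π := φ.rangeRestrict_surjective
  have k1 : ∀ x, π x = 1 ↔ x ∈ zpowers y := fun x => by
    rw [← hk, ← φ.ker_rangeRestrict, MonoidHom.mem_ker]
  have fy : ∀ w ∈ zpowers y, α w = w := by
    rintro _ ⟨k, rfl⟩
    simp only [map_zpow, hα]
  have cy : zpowers y ≤ center D := Subgroup.zpowers_le.2 hy
  obtain ⟨β, hβ, oβ⟩ := c4_ind π hs ho fun x => by
    rw [k1, k1]
    exact ⟨fun h => (fy x h).symm ▸ h, fun h => α.injective (fy _ h) ▸ h⟩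
  have : Finite φ.range := Finite.of_surjective π hs
  have z4 : Nat.card (center φ.range) = 4 := by
    rw [← h4, ← Subgroup.card_map_of_injective φ.range.subtype_injective]
    congr 3
    ext k
    constructor
    · rintro ⟨z, hz, rfl⟩
      exact ⟨z.2, fun g hg => congrArg Subtype.val (Subgroup.mem_center_iff.1 hz ⟨g, hg⟩)⟩
    · rintro ⟨h1, h2⟩
      exact ⟨⟨k, h1⟩, Subgroup.mem_center_iff.2 fun g => Subtype.ext (h2 g g.2), rfl⟩
  obtain ⟨⟨a, b, n1, m1⟩, fz, sj⟩ := c4_sixteen (hD.of_surjective π hs) h16 z4 oβ (by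
    obtain ⟨x, hx⟩ := hn
    exact ⟨π x, fun e => hx (congrArg Subtype.val ((hβ x).symm.trans e))⟩)
  obtain ⟨a, rfl⟩ := hs a
  obtain ⟨b, rfl⟩ := hs b
  set Y := (center φ.range).comap π with hY
  have iY : Y.index = 4 := by
    rw [hY, Subgroup.index_comap_of_surjective _ hs]
    have := Subgroup.card_mul_index (center φ.range)
    rw [z4, h16] at this
    omega
  have key : ∀ s ∈ Y, (∀ x, s * (x / α x) = x / α x * s) ∧
      s * (a * b * a⁻¹ * b⁻¹) = a * b * a⁻¹ * b⁻¹ * s := fun s hs' => by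
    have cm : ∀ d, s * d * s⁻¹ * d⁻¹ ∈ zpowers y := fun d => by
      rw [← k1, map_mul, map_mul, map_mul, ← Subgroup.mem_center_iff.1 hs' (π d), map_inv, map_inv]
      group
    let c : D →* center D := MonoidHom.mk' (fun d => ⟨s * d * s⁻¹ * d⁻¹, cy (cm d)⟩) fun d e => by
      apply Subtype.ext
      have := Subgroup.mem_center_iff.1 (cy (cm e)) d⁻¹
      simp only [Subgroup.coe_mul]
      calc _ = s * d * s⁻¹ * (s * e * s⁻¹ * e⁻¹ * d⁻¹) := by group
        _ = _ := by rw [← this]; group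
    have kc : ∀ d, c d = 1 → s * d = d * s := fun d e => by
      have : s * d * s⁻¹ * d⁻¹ = 1 := congrArg Subtype.val e
      rwa [mul_inv_eq_one, mul_inv_eq_iff_eq_mul] at this
    have as : s⁻¹ * α s ∈ zpowers y := by
      rw [← k1, map_mul, ← hβ, fz _ hs', map_inv, inv_mul_cancel]
    refine ⟨fun x => kc _ ?_, kc _ ?_⟩
    · rw [map_div, div_eq_one]
      apply Subtype.ext
      have e := fy _ (cm x)
      have t := Subgroup.mem_center_iff.1 (cy as) (α x)
      simp only [map_mul, map_inv] at e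
      show s * x * s⁻¹ * x⁻¹ = s * α x * s⁻¹ * (α x)⁻¹
      calc _ = s * (s⁻¹ * α s * α x) * (α s)⁻¹ * (α x)⁻¹ := by rw [← e]; group
        _ = _ := by rw [← t]; group
    · simp only [map_mul, map_inv]
      rw [show c a * c b = c b * c a from Subtype.ext (Subgroup.mem_center_iff.1 (c b).2 _)]
      group
  have ab : ∀ x ∈ Y, ∀ x' ∈ Y, x * x' = x' * x := by
    refine OL5.ab_of_index_two (Z := Y ⊓ Cen Y) inf_le_left (fun z hz x hx => (hz.2 x hx).symm) ?_
    have l1 : zpowers y ≤ Y ⊓ Cen Y := fun w hw =>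
      ⟨show π w ∈ center φ.range from (k1 w).2 hw ▸ one_mem _,
        fun x _ => Subgroup.mem_center_iff.1 (cy hw) x⟩
    have l2 : a * b * a⁻¹ * b⁻¹ ∈ Y ⊓ Cen Y := ⟨by simpa [hY] using m1, fun x hx => (key x hx).2⟩
    have l3 : a * b * a⁻¹ * b⁻¹ ∉ zpowers y := fun h => n1 (by simpa using (k1 _).2 h)
    obtain ⟨m, hm⟩ := Subgroup.card_dvd_of_le l1
    have m1' : m ≠ 1 := fun e => l3 ((Subgroup.eq_of_le_of_card_ge l1 (by rw [hm, e, mul_one])).symm ▸ l2)
    have m0 : m ≠ 0 := fun e => by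
      have := Nat.card_pos (α := (Y ⊓ Cen Y : Subgroup D))
      rw [hm, e] at this
      omega
    have c1 := Subgroup.card_mul_index Y
    have c2 := Subgroup.card_mul_index φ.ker
    rw [Subgroup.index_ker, h16, hk] at c2
    rw [iY] at c1
    have : 2 ≤ m := by omega
    nlinarith
  have e : center D = Y := by
    refine le_antisymm (fun z hz => Subgroup.mem_center_iff.2 fun p => ?_) fun s hs' =>
      Subgroup.mem_center_iff.2 fun d => ?_
    · obtain ⟨d, rfl⟩ := hs p
      rw [← map_mul, Subgroup.mem_center_iff.1 hz, map_mul]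
    · obtain ⟨p, hp⟩ := sj (π d)
      obtain ⟨x, rfl⟩ := hs p
      rw [hβ, ← map_div, ← map_inv, ← map_mul] at hp
      have h1 := ab _ hp s hs'
      have h2 := (key s hs').1 x
      calc d * s = x / α x * ((x / α x)⁻¹ * d * s) := by group
        _ = x / α x * s * ((x / α x)⁻¹ * d) := by rw [h1]; group
        _ = _ := by rw [← h2]; group
  rw [e, iY]

end H85.C16
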