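import Mathlib
import Cfsg.Agent.Lib.C16.Red
import Cfsg.Agent.Lib.C16.T1
import Cfsg.Agent.Lib.C16.W
import Cfsg.Agent.Lib.C16.A2
import Cfsg.Agent.Lib.C16.A3
import Cfsg.Agent.Lib.OL5.BA
import Cfsg.Agent.Lib.Block.CycMin

set_option autoImplicit false
set_option linter.unusedSectionVars false
set_option linter.style.haveILetI false
attribute [local irreducible] H33.instFieldF

namespace H85.C16

open Cfsg H84 H85 K44
open H33 (F eB)
open H86 (Cen Nor cj cs eS St Mor)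
open Subgroup (zpowers center closure)
open scoped SubFin

universe u

variable {G : Type u} [Group G] [Fintype G] {p : ℕ} [Fact p.Prime] {M : Ideal AlgInt} [M.IsMaximal]
  {B : Set (IrrCharacter G)} {P N V₁ V₂ : Subgroup G} {e : MonoidAlgebra (F M) G} {u w u₁ u₂ : G}

theorem latMin_free (h : MP p M B P e) (hab : P ≤ Cen P) (hf : Free P e) :
    LatMin p B (blockRank p B) := by
  by_cases h1 : P = ⊥
  · rw [MP.blockRank_of_nil h.hM ((h.nil_iff hab).2 (by rw [h1, H86.Cen_bot]; exact le_top)),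
      Nat.cast_one]
    exact latMin_one
  by_cases hr : Nat.card (inq P e) + 1 < Nat.card P
  · exact latMin_exc h hab hf hr
  have hP : 1 < Nat.card P := (Subgroup.one_lt_card_iff_ne_bot P).2 h1
  have hle := Nat.le_of_dvd (by omega) (h.card_inq_dvd hab hf)
  obtain ⟨w, hw⟩ := Subgroup.ne_bot_iff_exists_ne_one.1 h1
  refine wg_top (N := P) (w := w) h hab ⟨le_rfl, w.2, fun k => hw (Subtype.ext k), fun t ht u hu =>
    mul_mem (inv_mem hu) ((H86.mem_Nor.1 (H86.St_le_Nor _ _ _ ht) u).1 hu), fun v hv v1 => ?_, hf⟩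
  obtain ⟨t, ht, k⟩ := (H86.fus_iff_of_ab h hab w.2).1
    (h.fus_of_card hab hf (by omega) (v := ⟨v, hv⟩) hw fun k => v1 (congrArg Subtype.val k))
  exact ⟨t, ht, k.symm⟩

theorem card_le_ab2 (h : MP 2 M B P e) (hab : P ≤ Cen P) (hu : u ∈ P)
    (hc : Nat.card P ≤ 16 * orderOf u) : Nat.card B ≤ Nat.card P := by
  obtain ⟨v, hv, hd⟩ := ab2 h.pgrp hab hu hc (H86.St_le_Nor ⊤ P e)
    (by rw [← card_inq]; exact h.not_dvd_card_inq hab)
  refine card_le_of_loc h ⟨hv, hab hv⟩ ?_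
  rcases hd with hd | ⟨h32, ho, hd⟩
  · obtain ⟨K, _, _, c, Q, e', m, hQ, -, -, hinq, hrk, -⟩ := OL5.exists_red h hab hv Nat.prime_three hd
    exact Or.inr ⟨rfl, hrk ▸ OL5.rank_le_prime m hQ Nat.prime_three hinq⟩
  · obtain ⟨K, _, _, c, Q, e', m, hQ, hcard, -, hinq, hrk, hlat⟩ :=
      OL5.exists_red h hab hv Nat.prime_five hd
    rcases (Nat.dvd_prime Nat.prime_five).1 hinq with h1 | h5
    · exact Or.inr ⟨rfl, hrk ▸ OL5.rank_le_prime m hQ Nat.prime_three (h1 ▸ one_dvd _)⟩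
    · have hL := latMin_free m hQ (OL5.ba_free (by rw [ho, h32] at hcard; omega) h5)
      refine Or.inl fun f hf f0 => ?_
      obtain ⟨f', hf', k⟩ := hlat f hf
      rw [← k, ← hrk]
      refine hL f' hf' fun k0 => ?_
      have := one_le_qf hf f0
      rw [← k, k0] at this
      simp at this
      exact absurd this (by norm_num)

theorem card_le_ab3 (h : MP 3 M B P e) (hab : P ≤ Cen P) (hu : u ∈ P)
    (hc : Nat.card P ≤ 9 * orderOf u) : Nat.card B ≤ Nat.card P := by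
  rcases ab3 h.pgrp hab hu hc (H86.St_le_Nor ⊤ P e)
    (by rw [← card_inq]; exact h.not_dvd_card_inq hab) with ⟨x, y, k⟩ | ⟨v, hv, k⟩
  · rw [h.card_eq]
    exact card_le_of_two_gen h.hM h.hB h.defect x y (Subgroup.mem_center_iff.2 fun g =>
      Subtype.ext (Subgroup.mem_centralizer_iff.1 (hab y.2) g g.2)) k
  refine card_le_of_loc h ⟨hv, hab hv⟩ (Or.inl ?_)
  rcases k with k | ⟨N, w, k⟩
  · rw [MP.blockRank_of_nil h.hM ((h.nil_loc_iff hab (Subgroup.zpowers_le.2 hv)).2 k), Nat.cast_one]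
    exact latMin_one
  · exact (wg_loc h hab hv k).1

end H85.C16
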