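import Mathlib
import Cfsg.Agent.Lib.C16.Defs
import Cfsg.Agent.Lib.OL5.GA
import Cfsg.Agent.Lib.OL5.GB

set_option autoImplicit false
set_option linter.unusedSectionVars false

namespace H85.C16

open H86 (Cen Nor)
open Subgroup (zpowers center closure)

variable {D K : Type*} [Group D] [Finite D] [Group K] {φ : D →* K} {y : D} {α : MulAut D}

theorem n3_lt {p : ℕ} [hp : Fact p.Prime] (hD : IsPGroup p D) {A B : Subgroup D} (h : A < B) :
    p * B.index ≤ A.index := by
  rw [← Subgroup.relIndex_mul_index h.le]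
  refine Nat.mul_le_mul_right _ ?_
  obtain ⟨k, hk⟩ := (hD.to_subgroup B).index (A.subgroupOf B)
  have h1 : A.relIndex B ≠ 1 := fun e => h.not_ge (Subgroup.relIndex_eq_one.1 e)
  have hk' : A.relIndex B = p ^ k := hk
  rw [hk'] at h1 ⊢
  exact Nat.le_self_pow (fun e => h1 (by rw [e, pow_zero])) p

theorem n3_iter {E : Type*} [Group E] (f : D →* E) {x w : D} (h1 : α x = x * w) (h2 : f (α w) = f w)
    (h3 : ∀ a b, f a = f b → f (α a) = f (α b)) (i : ℕ) : f ((α ^ i) x) = f x * f w ^ i := by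
  have k : ∀ i : ℕ, f ((α ^ i) w) = f w := fun i => by
    induction i with
    | zero => simp
    | succ i ih => rw [pow_succ', MulAut.mul_apply, h3 _ _ ih, h2]
  induction i with
  | zero => simp
  | succ i ih => rw [pow_succ, MulAut.mul_apply, h1, map_mul, map_mul, ih, k, pow_succ, mul_assoc]

theorem n3_one (ho : ¬ 2 ∣ orderOf α) {x w : D} (h1 : α x = x * w) (h2 : α w = w) (h3 : w ^ 2 = 1) :
    w = 1 := by
  have := n3_iter (MonoidHom.id D) h1 h2 (fun a b e => congrArg α e) (orderOf α)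
  rw [pow_orderOf_eq_one, MulAut.one_apply, MonoidHom.id_apply, left_eq_mul] at this
  have c : (orderOf α).Coprime 2 := ((Nat.Prime.coprime_iff_not_dvd Nat.prime_two).2 ho).symm
  exact orderOf_eq_one_iff.1
    (Nat.eq_one_of_dvd_coprimes c (orderOf_dvd_of_pow_eq_one this) (orderOf_dvd_of_pow_eq_one h3))

theorem free3 (hD : IsPGroup 3 D) (hy : y ∈ center D) (hk : φ.ker = zpowers y)
    (hc : Nat.card φ.range ≤ 9) (hn : ¬ ∀ a b : D, a * b = b * a) (ho : ¬ 3 ∣ orderOf α)
    (hα : α y = y) {u : D} (hu : φ u ≠ 1) (h : φ (α u) = φ u) (x : D) : φ (α x) = φ x := by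
  haveI : Fact (Nat.Prime 3) := ⟨Nat.prime_three⟩
  have kz : φ.ker ≤ center D := hk ▸ Subgroup.zpowers_le.2 hy
  have fx : ∀ g ∈ φ.ker, α g = g := fun g hg => by
    rw [hk] at hg
    obtain ⟨k, rfl⟩ := hg
    simp only [map_zpow, hα]
  have i9 : φ.ker.index ≤ 9 := Subgroup.index_ker φ ▸ hc
  have cen : ∀ a : D, a ∉ center D → Subgroup.centralizer ({a} : Set D) < ⊤ := fun a ha =>
    lt_top_iff_ne_top.2 fun e => ha (Subgroup.mem_center_iff.2 fun g =>
      Subgroup.mem_centralizer_singleton_iff.1 (e ▸ Subgroup.mem_top g))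
  have c3 : ∀ a : D, a ∉ center D → 3 ≤ (Subgroup.centralizer ({a} : Set D)).index := fun a ha => by
    simpa using n3_lt hD (cen a ha)
  have z9 : 9 ≤ (center D).index := by
    push Not at hn
    obtain ⟨a, b, hab⟩ := hn
    have ha : a ∉ center D := fun e => hab (Subgroup.mem_center_iff.1 e b).symm
    have := n3_lt hD (lt_of_le_of_ne (Subgroup.center_le_centralizer ({a} : Set D))
      fun e => ha (e ▸ Subgroup.mem_centralizer_singleton_iff.2 rfl))
    have := c3 a ha
    omega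
  have ez : φ.ker = center D := by
    by_contra e
    have := n3_lt hD (lt_of_le_of_ne kz e)
    omega
  have e9 : Nat.card φ.range = 3 ^ 2 := by
    rw [← Subgroup.index_ker φ]; rw [← ez] at z9; omega
  have ab : ∀ a b : D, φ a * φ b = φ b * φ a := fun a b => congrArg Subtype.val
    ((IsPGroup.isMulCommutative_of_card_eq_prime_sq e9).is_comm.comm (⟨φ a, a, rfl⟩ : φ.range) ⟨φ b, b, rfl⟩)
  have uz : u ∉ center D := ez ▸ hu
  let F : Subgroup D := (φ.comp α.toMonoidHom).eqLocus φ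
  have CF : Subgroup.centralizer ({u} : Set D) ≤ F := by
    have l1 : φ.ker < Subgroup.centralizer ({u} : Set D) ⊓ F := lt_of_le_of_ne
      (le_inf (kz.trans (Subgroup.center_le_centralizer _)) fun g hg => congrArg φ (fx g hg))
      fun e => hu (show u ∈ φ.ker from e ▸ ⟨Subgroup.mem_centralizer_singleton_iff.2 rfl, h⟩)
    by_contra e
    have := n3_lt hD l1
    have := n3_lt hD (inf_lt_left.2 e)
    have := c3 u uz
    omega
  have hc1 : u * x * u⁻¹ * x⁻¹ ∈ φ.ker := by
    rw [MonoidHom.mem_ker, map_mul, map_mul, map_mul, ab, map_inv, map_inv]; group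
  have hs : u⁻¹ * α u ∈ center D := kz (by rw [MonoidHom.mem_ker, map_mul, map_inv, h, inv_mul_cancel])
  have hw : x⁻¹ * α x ∈ F := by
    refine CF (Subgroup.mem_centralizer_singleton_iff.2 ?_)
    have e1 := fx _ hc1
    rw [map_mul, map_mul, map_mul, map_inv, map_inv] at e1
    have e2 : α u * α x * (α u)⁻¹ = u * α x * u⁻¹ := by
      rw [show α u = u * (u⁻¹ * α u) by group, mul_assoc u, ← Subgroup.mem_center_iff.1 hs]; group
    rw [e2] at e1
    calc x⁻¹ * α x * u = x⁻¹ * (u * x * u⁻¹ * x⁻¹)⁻¹ * (u * α x * u⁻¹ * (α x)⁻¹) * α x * u := by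
          rw [e1]; group
      _ = u * (x⁻¹ * α x) := by group
  have key := n3_iter φ (x := x) (w := x⁻¹ * α x) (α := α) (by group) hw (fun a b e => by
    have : a⁻¹ * b ∈ φ.ker := by rw [MonoidHom.mem_ker, map_mul, map_inv, e, inv_mul_cancel]
    have e' := fx _ this
    rw [map_mul, map_inv] at e'
    rw [← e', MonoidHom.mem_ker, map_mul, map_inv, inv_mul_eq_one] at this
    exact this) (orderOf α)
  rw [pow_orderOf_eq_one, MulAut.one_apply, left_eq_mul] at key
  obtain ⟨k, hk'⟩ := hD (x⁻¹ * α x)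
  have c : (orderOf α).Coprime (3 ^ k) :=
    ((Nat.Prime.coprime_iff_not_dvd Nat.prime_three).2 ho).symm.pow_right k
  have := orderOf_eq_one_iff.1 (Nat.eq_one_of_dvd_coprimes c (orderOf_dvd_of_pow_eq_one key)
    (orderOf_dvd_of_pow_eq_one (by rw [← map_pow, hk', map_one])))
  rw [map_mul, map_inv, inv_mul_eq_one] at this
  exact this.symm

theorem n3_inv {n : ℕ} (ho : orderOf y = 2 ^ (n + 1)) {g : D} (hg : g ∈ zpowers y) (h : g ^ 2 = 1) :
    g = 1 ∨ g = y ^ 2 ^ n := by
  obtain ⟨m, rfl⟩ := hg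
  have h' : y ^ (m * 2) = 1 := by rw [zpow_mul]; exact_mod_cast h
  rw [← orderOf_dvd_iff_zpow_eq_one, ho, pow_succ] at h'
  push_cast at h'
  obtain ⟨k, rfl⟩ := Int.dvd_of_mul_dvd_mul_right two_ne_zero h'
  have i2 : (y ^ 2 ^ n) ^ (2 : ℤ) = 1 := by
    rw [zpow_two, ← pow_two, ← pow_mul, ← pow_succ, ← ho, pow_orderOf_eq_one]
  have e : y ^ ((2 : ℤ) ^ n * k) = (y ^ 2 ^ n) ^ k := by
    rw [zpow_mul, ← zpow_natCast]; push_cast; rfl
  show y ^ ((2 : ℤ) ^ n * k) = 1 ∨ y ^ ((2 : ℤ) ^ n * k) = _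
  rw [e]
  rcases Int.even_or_odd' k with ⟨j, rfl | rfl⟩
  · left; rw [zpow_mul, i2, one_zpow]
  · right; rw [zpow_add, zpow_mul, i2, one_zpow, one_mul, zpow_one]

theorem n3_ext (Y : Subgroup D) {z : D} (hz : z ∈ center D) (z2 : z * z = 1) :
    ∃ W : Subgroup D, ∀ g, g ∈ W ↔ g ∈ Y ∨ g * z ∈ Y := by
  have c := Subgroup.mem_center_iff.1 hz
  refine ⟨⟨⟨⟨{g | g ∈ Y ∨ g * z ∈ Y}, ?_⟩, .inl Y.one_mem⟩, ?_⟩, fun g => Iff.rfl⟩
  · rintro a b (ha | ha) (hb | hb)
    · exact .inl (mul_mem ha hb)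
    · exact .inr (mul_assoc a b z ▸ mul_mem ha hb)
    · refine .inr ?_
      rw [mul_assoc, c b, ← mul_assoc]; exact mul_mem ha hb
    · refine .inl ?_
      have := mul_mem ha hb
      rwa [c b, mul_assoc, ← mul_assoc z, z2, one_mul] at this
  · rintro a (ha | ha)
    · exact .inl (inv_mem ha)
    · refine .inr ?_
      have := inv_mem ha
      rwa [mul_inv_rev, inv_eq_of_mul_eq_one_right z2, ← c] at this

theorem fix_center (hD : IsPGroup 2 D) (hy : y ∈ center D) (hc : Nat.card D ≤ 16 * orderOf y)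
    (h4 : (center D).index = 4) (hn : ¬ commutator D ≤ zpowers y) (h32 : 32 < Nat.card D)
    (ho : ¬ 2 ∣ orderOf α) : ∀ z ∈ center D, α z = z := by
  have c2 := OL5.card_comm_of_index_center hD h4
  obtain ⟨⟨z0, hz0⟩, z1, zu⟩ := (Nat.card_eq_two_iff' (1 : commutator D)).1 c2
  have z1' : z0 ≠ 1 := fun e => z1 (Subtype.ext e)
  have zu' : ∀ g ∈ commutator D, g ≠ 1 → g = z0 := fun g hg e =>
    congrArg Subtype.val (zu ⟨g, hg⟩ fun e' => e (congrArg Subtype.val e'))
  have zY : z0 ∉ zpowers y := fun e => hn fun g hg => by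
    by_cases g1 : g = 1
    · exact g1 ▸ one_mem _
    · exact zu' g hg g1 ▸ e
  have zc : z0 ∈ center D := OL5.comm_le_center hD c2 hz0
  have z2 : z0 * z0 = 1 := by
    by_contra e
    exact z1' (mul_left_cancel ((zu' _ (mul_mem hz0 hz0) e).trans (mul_one z0).symm))
  have az : α z0 = z0 := zu' _
    (Subgroup.characteristic_iff_le_comap.1 (inferInstance : (commutator D).Characteristic) α hz0)
    fun e => z1' (by simpa using e)
  have aZ : ∀ g ∈ center D, α g ∈ center D := fun g hg =>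
    Subgroup.characteristic_iff_le_comap.1 (inferInstance : (center D).Characteristic) α hg
  have cm : ∀ a ∈ center D, ∀ b, a * b = b * a := fun a ha b => (Subgroup.mem_center_iff.1 ha b).symm
  obtain ⟨k, hk⟩ := IsPGroup.iff_orderOf.1 hD y
  obtain ⟨n, rfl⟩ : ∃ n, k = n + 2 := by
    refine ⟨k - 2, ?_⟩
    rcases k with _ | _ | k
    · omega
    · omega
    · rfl
  obtain ⟨W, hW⟩ := n3_ext (zpowers y) zc z2
  have YZ : zpowers y ≤ center D := Subgroup.zpowers_le.2 hy
  have WZ : W ≤ center D := fun g hg => ((hW g).1 hg).elim (fun e => YZ e) fun e =>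
    (mul_mem_cancel_right zc).1 (YZ e)
  have two : ∀ a ∈ center D, ∀ b ∈ center D, a ∉ W → b ∉ W → a * b ∈ W := fun a ha b hb na nb => by
    have l1 := n3_lt hD (lt_of_le_of_ne (fun g hg => (hW g).2 (.inl hg))
      fun e : zpowers y = W => zY (e ▸ (hW z0).2 (.inr (z2 ▸ one_mem _))))
    have l2 := (zpowers y).index_mul_card
    rw [Nat.card_zpowers] at l2
    have l3 : (zpowers y).index ≤ 16 := Nat.le_of_mul_le_mul_right (l2 ▸ hc) (orderOf_pos y)
    have l4 := Subgroup.relIndex_mul_index WZ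
    have l5 : W.relIndex (center D) ≠ 1 := fun e => na (Subgroup.relIndex_eq_one.1 e ha)
    have l6 : W.index ≠ 0 := Subgroup.index_ne_zero_of_finite
    have l7 : (W.subgroupOf (center D)).index = 2 := by
      show W.relIndex (center D) = 2
      rw [h4] at l4; omega
    exact (Subgroup.mul_mem_iff_of_index_two l7 (a := ⟨a, ha⟩) (b := ⟨b, hb⟩)).2 (iff_of_false na nb)
  have inv := fun g => n3_inv (y := y) (n := n + 1) hk (g := g)
  have i2 : (y ^ 2 ^ (n + 1)) ^ 2 = 1 := by rw [← pow_mul, ← pow_succ, ← hk, pow_orderOf_eq_one]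
  have i1 : y ^ 2 ^ (n + 1) ≠ 1 := pow_ne_one_of_lt_orderOf (by positivity)
    (hk ▸ Nat.pow_lt_pow_right one_lt_two (by omega))
  have ai1 : α (y ^ 2 ^ (n + 1)) ≠ 1 := fun e => i1 (α.injective (e.trans (map_one α).symm))
  have sqz : ∀ g : D, (g * z0) ^ 2 = g ^ 2 := fun g => by
    rw [(Commute.symm (cm z0 zc g)).mul_pow, pow_two z0, z2, mul_one]
  have sqW : ∀ g ∈ W, g ^ 2 ∈ zpowers y := fun g hg =>
    ((hW g).1 hg).elim (fun e => pow_mem e 2) fun e => sqz g ▸ pow_mem e 2
  have ai : α (y ^ 2 ^ (n + 1)) = y ^ 2 ^ (n + 1) := by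
    have a2 : α (y ^ 2 ^ (n + 1)) ^ 2 = 1 := by rw [← map_pow, i2, map_one]
    by_cases e : ∀ s ∈ center D, s ^ 2 = 1 → s ∈ W
    · rcases (hW _).1 (e _ (aZ _ (pow_mem hy _)) a2) with e' | e'
      · exact (inv _ e' a2).resolve_left ai1
      · rcases inv _ e' ((sqz _).trans a2) with f | f
        · refine absurd ?_ zY
          rw [← α.injective ((eq_inv_of_mul_eq_one_left f).trans
            ((inv_eq_of_mul_eq_one_right z2).trans az.symm))]
          exact pow_mem (Subgroup.mem_zpowers y) _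
        · refine absurd (n3_one ho (x := y ^ 2 ^ (n + 1)) ?_ az (by rw [pow_two, z2])) z1'
          conv_rhs => rw [← f]
          rw [mul_assoc, z2, mul_one]
    · push Not at e
      obtain ⟨s, hs, s2, sW⟩ := e
      refine (inv _ ?_ a2).resolve_left ai1
      rw [pow_succ, pow_mul, map_pow]
      have hg := aZ _ (pow_mem hy (2 ^ n))
      by_cases gW : α (y ^ 2 ^ n) ∈ W
      · exact sqW _ gW
      · have := sqW _ (two _ hg _ hs gW sW)
        rwa [(show Commute _ s from cm _ hg s).mul_pow, s2, mul_one] at this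
  have fY : ∀ g ∈ zpowers y, g ^ 2 = 1 → α g = g := fun g hg e => by
    rcases inv g hg e with rfl | rfl
    · exact map_one α
    · exact ai
  have fW : ∀ g ∈ W, g ^ 2 = 1 → α g = g := fun g hg e => ((hW g).1 hg).elim (fun f => fY g f e) fun f => by
    have := fY _ f ((sqz g).trans e)
    rw [map_mul, az] at this
    exact mul_right_cancel this
  have step : ∀ g ∈ center D, (g⁻¹ * α g) ^ 2 = 1 → α (g⁻¹ * α g) = g⁻¹ * α g → α g = g :=
    fun g _ e f => (inv_mul_eq_one.1 (n3_one ho (x := g) (by group) f e)).symm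
  have sq : ∀ g ∈ center D, α (g ^ 2) = g ^ 2 → (g⁻¹ * α g) ^ 2 = 1 := fun g hg e => by
    rw [(show Commute g⁻¹ (α g) from cm _ (inv_mem hg) _).mul_pow, ← map_pow, e, inv_pow, inv_mul_cancel]
  have fO : ∀ g ∈ center D, g ^ 2 = 1 → α g = g := fun g hg e => by
    by_cases gW : g ∈ W
    · exact fW g gW e
    by_cases aW : α g ∈ W
    · exact α.injective (fW _ aW (by rw [← map_pow, e, map_one]))
    have s := sq g hg (by rw [e, map_one])
    exact step g hg s (fW _ (two _ (inv_mem hg) _ (aZ g hg) (fun f => gW (inv_mem_iff.1 f)) aW) s)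
  have key : ∀ j : ℕ, ∀ g ∈ center D, g ^ 2 ^ j = 1 → α g = g := fun j => by
    induction j with
    | zero => intro g _ e; rw [pow_zero, pow_one] at e; rw [e, map_one]
    | succ j ih =>
      intro g hg e
      have s := sq g hg (ih _ (pow_mem hg 2) (by rw [← pow_mul, ← pow_succ', e]))
      exact step g hg s (fO _ (mul_mem (inv_mem hg) (aZ g hg)) s)
  intro z hz
  obtain ⟨j, hj⟩ := hD z
  exact key j z hz hj

end H85.C16
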