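import Mathlib
import Cfsg.Agent.Lib.C16.Defs
import Cfsg.Agent.Lib.OL5.GA
import Cfsg.Agent.Lib.OL5.EC
import Cfsg.Agent.Lib.OL5.EM

set_option autoImplicit false
set_option linter.unusedSectionVars false

namespace H85.C16

open H86 (Cen Nor)
open Subgroup (zpowers center closure)

variable {G : Type*} [Group G] [Finite G] {D P T F : Subgroup G} {z b : G}

theorem q9_normal (hT : T ≤ Nor P) : ((Cen P).subgroupOf T).Normal :=
  Subgroup.normal_subgroupOf_of_le_normalizer (hT.trans (H86.Nor_le_Nor_Cen P))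

theorem q9_fix {t x : G} : t ∈ Cen (zpowers x) ↔ t * x * t⁻¹ = x := by
  rw [H86.mem_Cen_zpowers, mul_inv_eq_iff_eq_mul, eq_comm]

theorem q9_mem {t x : G} : x ∈ P ⊓ Cen (zpowers t) ↔ x ∈ P ∧ t * x * t⁻¹ = x := by
  rw [Subgroup.mem_inf, H86.mem_Cen_zpowers, mul_inv_eq_iff_eq_mul]

theorem q9_cen {t : G} : t ∈ Cen P ↔ ∀ x ∈ P, t * x * t⁻¹ = x := by
  simp only [H86.mem_Cen, mul_inv_eq_iff_eq_mul]
  exact ⟨fun h x hx => (h x hx).symm, fun h x hx => (h x hx).symm⟩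

theorem q9_pow (hT : T ≤ Nor P) (h9 : (Cen P).relIndex T = 9) {t : G} (ht : t ∈ T) : t ^ 9 ∈ Cen P := by
  haveI := q9_normal hT
  rw [← h9]
  exact ((Cen P).subgroupOf T).pow_index_mem ⟨t, ht⟩

theorem q9_three (hT : T ≤ Nor P) (h9 : (Cen P).relIndex T = 9) {t : G} (ht : t ∈ T) :
    ∃ s ∈ T, (∃ a, s ^ 3 ^ a = 1) ∧ ∀ x ∈ P, s * x * s⁻¹ = t * x * t⁻¹ := by
  obtain ⟨a, m, hm, e⟩ := Nat.exists_eq_pow_mul_and_not_dvd (orderOf_pos t).ne' 3 (by decide)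
  obtain ⟨j, hj⟩ : ∃ j, m ^ 6 = 1 + 9 * j := by
    refine ⟨m ^ 6 / 9, ?_⟩
    have h1 : m ^ 6 % 9 = 1 := by
      have : m % 9 = 1 ∨ m % 9 = 2 ∨ m % 9 = 4 ∨ m % 9 = 5 ∨ m % 9 = 7 ∨ m % 9 = 8 := by omega
      rw [Nat.pow_mod]
      rcases this with h | h | h | h | h | h <;> rw [h]
    omega
  refine ⟨t ^ m ^ 6, pow_mem ht _, ⟨a, ?_⟩, fun x hx => ?_⟩
  · rw [← pow_mul, show m ^ 6 * 3 ^ a = 3 ^ a * m * m ^ 5 by ring, ← e, pow_mul, pow_orderOf_eq_one, one_pow]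
  · have := q9_cen.1 (pow_mem (q9_pow hT h9 ht) j) x hx
    rw [hj, pow_add, pow_one, pow_mul, show t * (t ^ 9) ^ j * x * (t * (t ^ 9) ^ j)⁻¹ =
      t * ((t ^ 9) ^ j * x * ((t ^ 9) ^ j)⁻¹) * t⁻¹ by group, this]

theorem q9_two (hP : IsPGroup 2 P) (hT : T ≤ Nor P) (h9 : (Cen P).relIndex T = 9) {t : G} (ht : t ∈ T)
    {A : Subgroup G} (hA : A ≤ P) (hn : t ∈ Nor A) (hF : F ≤ A) (h1 : t ∈ Cen F)
    (hi : Nat.card A ≤ 2 * Nat.card F) : t ∈ Cen A := by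
  obtain ⟨s, -, ⟨a, ha⟩, e⟩ := q9_three hT h9 ht
  have ho : ¬ 2 ∣ orderOf s := fun h => by
    have := (Nat.prime_two.dvd_of_dvd_pow (h.trans (orderOf_dvd_of_pow_eq_one ha)))
    omega
  have := OL5.cen_of_index_two (hP.to_le hA) hF (Subgroup.mem_normalizer_fintype fun x hx => by
    rw [e x (hA hx)]; exact (H86.mem_Nor.1 hn x).1 hx) ho
    (q9_cen.2 fun x hx => by rw [e x (hA (hF hx)), q9_cen.1 h1 x hx]) hi
  exact q9_cen.2 fun x hx => by rw [← e x (hA hx), q9_cen.1 this x hx]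

theorem q9_nor (hT : T ≤ Nor P) (h9 : (Cen P).relIndex T = 9) {t : G} (ht : t ∈ T) :
    T ≤ Nor (P ⊓ Cen (zpowers t) : Subgroup G) := fun s hs => Subgroup.mem_normalizer_fintype fun x hx => by
  haveI := q9_normal hT
  haveI : Fact (Nat.Prime 3) := ⟨Nat.prime_three⟩
  have hc := (IsPGroup.isMulCommutative_of_card_eq_prime_sq (G := T ⧸ (Cen P).subgroupOf T) (p := 3) h9).is_comm.comm
    ((⟨s, hs⟩ : T) : T ⧸ (Cen P).subgroupOf T) ((⟨t, ht⟩ : T) : T ⧸ (Cen P).subgroupOf T)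
  rw [← QuotientGroup.mk_mul, ← QuotientGroup.mk_mul, QuotientGroup.eq] at hc
  have hc : (s * t)⁻¹ * (t * s) ∈ Cen P := hc
  obtain ⟨h1, h2⟩ := q9_mem.1 hx
  refine q9_mem.2 ⟨(H86.mem_Nor.1 (hT hs) x).1 h1, ?_⟩
  calc t * (s * x * s⁻¹) * t⁻¹
      = s * (t * ((s * t)⁻¹ * (t * s) * x * ((s * t)⁻¹ * (t * s))⁻¹) * t⁻¹) * s⁻¹ := by group
    _ = _ := by rw [q9_cen.1 hc x h1, h2]

theorem q9_small (hP : IsPGroup 2 P) (hT : T ≤ Nor P) (h9 : (Cen P).relIndex T = 9) {t : G} (ht : t ∈ T)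
    (ht' : t ∉ Cen P) : 2 * Nat.card (P ⊓ Cen (zpowers t) : Subgroup G) < Nat.card P :=
  not_le.1 fun h => ht' (q9_two hP hT h9 ht le_rfl (hT ht) inf_le_left
    (q9_cen.2 fun _ hx => (q9_mem.1 hx).2) h)

theorem q9_mod (hT : T ≤ Nor P) (h9 : (Cen P).relIndex T = 9) {t : G} (ht : t ∈ T) :
    Nat.card P ≡ Nat.card (P ⊓ Cen (zpowers t) : Subgroup G) [MOD 3] := by
  obtain ⟨s, hs, ⟨a, ha⟩, e⟩ := q9_three hT h9 ht
  have h1 : P ⊓ Cen (zpowers t) = P ⊓ Cen (zpowers s) := Subgroup.ext fun x => by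
    rw [q9_mem, q9_mem]
    exact and_congr_right fun hx => by rw [e x hx]
  rw [h1]
  refine OL5.card_fix_modEq Nat.prime_three ?_ (Subgroup.zpowers_le.2 (hT hs))
  rintro ⟨_, k, rfl⟩
  refine ⟨a, Subtype.ext ?_⟩
  change (s ^ k) ^ 3 ^ a = 1
  rw [← zpow_natCast, ← zpow_mul, mul_comm, zpow_mul, zpow_natCast, ha, one_zpow]

theorem q9_reg (hT : T ≤ Nor P) (h9 : (Cen P).relIndex T = 9) (hc : Nat.card P ≤ 16) {V : Subgroup G} (hV : V ≤ P)
    (h : Nat.card V + 9 < Nat.card P ∨ (Nat.card V < Nat.card P ∧ Nat.card P ≤ 8)) :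
    ∃ u ∈ P, u ∉ V ∧ ∃ t ∈ T, t ∉ Cen P ∧ t * u * t⁻¹ = u := by
  by_contra hn
  push Not at hn
  letI := MulDistribMulAction.compHom P (P.normalizerMonoidHom.comp (Subgroup.inclusion hT))
  have sm : ∀ (t : T) (a : P), ((t • a : P) : G) = t * a * (t : G)⁻¹ := fun t a => rfl
  have h1 : ∀ u : P, (u : G) ∉ V → (MulAction.orbit T u).ncard = 9 := fun u hu => by
    rw [← MulAction.index_stabilizer, ← h9, Subgroup.relIndex]
    congr 1
    ext t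
    rw [MulAction.mem_stabilizer_iff, Subgroup.mem_subgroupOf, Subtype.ext_iff, sm]
    exact ⟨fun e => by_contra fun h => hn u u.2 hu t t.2 h e, fun h => q9_cen.1 h u u.2⟩
  have cV : ((V.subgroupOf P : Subgroup P) : Set P).ncard = Nat.card V := by
    rw [← Nat.card_coe_set_eq]
    exact Nat.card_congr (Subgroup.subgroupOfEquivOfLe hV).toEquiv
  have ex : ∀ S : Set P, S.ncard < Nat.card P → ∃ u, u ∉ S := fun S hS => by
    by_contra h
    push Not at h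
    rw [Set.eq_univ_of_forall h, Set.ncard_univ] at hS
    exact lt_irrefl _ hS
  have le : ∀ S : Set P, S.ncard ≤ Nat.card P := fun S => by
    rw [← Set.ncard_univ]; exact Set.ncard_le_ncard (Set.subset_univ S)
  obtain ⟨u, hu⟩ := ex ((V.subgroupOf P : Subgroup P) : Set P) (by omega)
  have h2 := h1 u hu
  have h3 := le (MulAction.orbit T u)
  have h4 := Set.ncard_union_le ((V.subgroupOf P : Subgroup P) : Set P) (MulAction.orbit T u)
  obtain ⟨u', hu'⟩ := ex (((V.subgroupOf P : Subgroup P) : Set P) ∪ MulAction.orbit T u) (by omega)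
  have h5 := h1 u' fun h => hu' (Or.inl h)
  rcases MulAction.orbit.eq_or_disjoint (G := T) u u' with e | e
  · exact hu' (Or.inr (e ▸ MulAction.mem_orbit_self u'))
  · have h6 := Set.ncard_union_eq e
    have h7 := le (MulAction.orbit T u ∪ MulAction.orbit T u')
    omega

theorem q9_two_le {A : Subgroup G} {u : G} (hu : u ∈ A) (h : u ≠ 1) : 2 ≤ Nat.card A :=
  A.one_lt_card_iff_ne_bot.2 fun e => h (Subgroup.mem_bot.1 (e ▸ hu))

theorem q9_wg (hP : IsPGroup 2 P) (hab : P ≤ Cen P) (hT : T ≤ Nor P) (h9 : (Cen P).relIndex T = 9)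
    {V W : Subgroup G} (hV : V ≤ P) (hW : W ≤ P) (cV : Nat.card V = 4) (cW : Nat.card W = 4) (nV : T ≤ Nor V)
    (nW : T ≤ Nor W) (dec : ∀ x ∈ P, ∃ a ∈ V, ∃ b ∈ W, x = a * b) {u w α : G} (hu : u ∈ V) (hu1 : u ≠ 1)
    (hw : w ∈ W) (hw1 : w ≠ 1) (hα : α ∈ T) (hα' : α ∉ Cen P) (e : α * w * α⁻¹ = w) :
    WG P (T ⊓ Cen (zpowers w)) V u ∧ ∀ v ∈ V, v ^ 2 = 1 := by
  have c2 : ∀ {A : Subgroup G}, A ≤ P → Nat.card A = 4 → T ≤ Nor A → ∀ v ∈ A, v ≠ 1 → ∀ t ∈ T,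
      t ∈ Cen (zpowers v) → t ∈ Cen A := fun hA cA nA v hv h1 t ht h =>
    q9_two hP hT h9 ht hA (nA ht) (Subgroup.zpowers_le.2 hv) h (by
      have := q9_two_le (Subgroup.mem_zpowers v) h1
      omega)
  have fr : ∀ t ∈ T ⊓ Cen (zpowers w), ∀ v ∈ V, v ≠ 1 → t * v * t⁻¹ = v → t ∈ Cen P := by
    intro t ht v hv h1 h
    refine q9_cen.2 fun x hx => ?_
    obtain ⟨a, ha, b, hb, rfl⟩ := dec x hx
    rw [show t * (a * b) * t⁻¹ = (t * a * t⁻¹) * (t * b * t⁻¹) by group,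
      q9_cen.1 (c2 hV cV nV v hv h1 t ht.1 (q9_fix.2 h)) a ha, q9_cen.1 (c2 hW cW nW w hw hw1 t ht.1 ht.2) b hb]
  have mα : α ∈ T ⊓ Cen (zpowers w) := ⟨hα, q9_fix.2 e⟩
  have tr : ∀ v ∈ V, v ≠ 1 → ∃ t ∈ T ⊓ Cen (zpowers w), t * u * t⁻¹ = v := by
    intro v hv h1
    by_contra hn
    push Not at hn
    have n1 : α * u * α⁻¹ ≠ u := fun h => hα' (fr α mα u hu hu1 h)
    have n2 : α ^ 2 * u * (α ^ 2)⁻¹ ≠ u := fun h => hα' (by
      have := mul_mem (q9_pow hT h9 hα) (inv_mem (pow_mem (fr _ (pow_mem mα 2) u hu hu1 h) 4))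
      rwa [show α ^ 9 * ((α ^ 2) ^ 4)⁻¹ = α by group] at this)
    have n3 : α ^ 2 * u * (α ^ 2)⁻¹ ≠ α * u * α⁻¹ := fun h => n1 (by
      rw [show α * u * α⁻¹ = α⁻¹ * (α ^ 2 * u * (α ^ 2)⁻¹) * α by group, h]; group)
    have n4 : α * u * α⁻¹ ≠ 1 := by simpa using hu1
    have n5 : α ^ 2 * u * (α ^ 2)⁻¹ ≠ 1 := by simpa using hu1
    have m0 : u ≠ v := by simpa using hn 1 (one_mem _)
    have m1 := hn α mα
    have m2 := hn _ (pow_mem mα 2)
    have k1 := (H86.mem_Nor.1 (nV hα) u).1 hu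
    have k2 := (H86.mem_Nor.1 (nV (pow_mem hα 2)) u).1 hu
    generalize α * u * α⁻¹ = u1 at *
    generalize α ^ 2 * u * (α ^ 2)⁻¹ = u2 at *
    have h5 : ({1, u, u1, u2, v} : Set G).ncard = 5 := by
      rw [Set.ncard_insert_of_notMem (by simp [hu1.symm, n4.symm, n5.symm, h1.symm]),
        Set.ncard_insert_of_notMem (by simp [n1.symm, n2.symm, m0]),
        Set.ncard_insert_of_notMem (by simp [n3.symm, m1]), Set.ncard_pair m2]
    have h6 : ({1, u, u1, u2, v} : Set G).ncard ≤ (V : Set G).ncard :=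
      Set.ncard_le_ncard (by
        rintro _ (rfl | rfl | rfl | rfl | rfl)
        exacts [one_mem V, hu, k1, k2, hv])
    rw [← Nat.card_coe_set_eq (V : Set G), h5] at h6
    exact absurd (h6.trans cV.le) (by decide)
  refine ⟨⟨hV, hu, hu1, fun t ht x hx => ?_, tr, fr⟩, fun v hv => ?_⟩
  · obtain ⟨a, ha, b, hb, rfl⟩ := dec x hx
    have k := mul_mem (inv_mem ha) ((H86.mem_Nor.1 (nV ht.1) a).1 ha)
    rw [show t * (a * b) * t⁻¹ = (t * a * t⁻¹) * (t * b * t⁻¹) by group,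
      q9_cen.1 (c2 hW cW nW w hw hw1 t ht.1 ht.2) b hb,
      show (a * b)⁻¹ * (t * a * t⁻¹ * b) = b⁻¹ * (a⁻¹ * (t * a * t⁻¹)) * b⁻¹⁻¹ by group,
      q9_cen.1 (hab (inv_mem (hW hb))) _ (hV k)]
    exact k
  · obtain ⟨i, hi⟩ := exists_prime_orderOf_dvd_card' (G := V) 2 (by rw [cV]; decide)
    have i2 : (i : G) ^ 2 = 1 := by
      have := pow_orderOf_eq_one i
      rw [hi] at this
      exact congrArg Subtype.val this
    obtain ⟨t, -, h⟩ := tr i i.2 fun h => by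
      rw [show i = 1 from Subtype.ext h, orderOf_one] at hi
      exact absurd hi (by decide)
    rw [← h, conj_pow] at i2
    have u2 : u ^ 2 = 1 := by simpa using i2
    by_cases h1 : v = 1
    · rw [h1, one_pow]
    · obtain ⟨t, -, rfl⟩ := tr v hv h1
      rw [conj_pow, u2]; group

theorem exists_x9 (hP : IsPGroup 2 P) (hab : P ≤ Cen P) (hc : Nat.card P ≤ 16) (hT : T ≤ Nor P)
    (h9 : (Cen P).relIndex T = 9) : ∃ V₁ V₂ u₁ u₂, X9G P T V₁ V₂ u₁ u₂ := by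
  have h0 : ¬ T ≤ Cen P := fun h => by
    rw [Subgroup.relIndex_eq_one.2 h] at h9
    exact absurd h9 (by decide)
  have pw : ∀ A ≤ P, Nat.card A = 1 ∨ Nat.card A = 2 ∨ Nat.card A = 4 ∨ Nat.card A = 8 ∨ Nat.card A = 16 := by
    intro A hA
    obtain ⟨n, hn⟩ := IsPGroup.iff_card.1 (hP.to_le hA)
    have h1 := (Subgroup.card_le_of_le hA).trans hc
    rw [hn] at h1 ⊢
    have : n < 5 := (Nat.pow_lt_pow_iff_right (a := 2) (by decide)).1 (by omega)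
    interval_cases n <;> simp
  have c16 : Nat.card P = 16 := by
    by_contra hn
    have h8 : Nat.card P ≤ 8 := by
      have := pw P le_rfl
      omega
    refine h0 fun s hs => q9_cen.2 fun u hu => ?_
    let V : Subgroup G := P ⊓ Cen T
    by_cases hV : Nat.card V < Nat.card P
    · obtain ⟨v, hv, hv', t, ht, ht', e⟩ := q9_reg hT h9 hc (V := V) inf_le_left (Or.inr ⟨hV, h8⟩)
      have h1 := q9_small hP hT h9 ht ht'
      have h2 := pw (P ⊓ Cen (zpowers t)) inf_le_left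
      refine (hv' ⟨hv, H86.mem_Cen.2 fun r hr => ?_⟩).elim
      have := q9_two hP hT h9 hr inf_le_left (q9_nor hT h9 ht hr) bot_le (by rw [H86.Cen_bot]; trivial)
        (by rw [Subgroup.card_bot]; omega)
      exact (H86.mem_Cen.1 this v (q9_mem.2 ⟨hv, e⟩)).symm
    · have : V = P := Subgroup.eq_of_le_of_card_ge inf_le_left (not_lt.1 hV)
      have hu' : u ∈ V := this ▸ hu
      rw [H86.mem_Cen.1 hu'.2 s hs, mul_inv_cancel_right]
  have c4 : ∀ t ∈ T, t ∉ Cen P → ∀ u ∈ P ⊓ Cen (zpowers t), u ≠ 1 →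
      Nat.card (P ⊓ Cen (zpowers t) : Subgroup G) = 4 := fun t ht ht' u hu h1 => by
    have h2 := q9_small hP hT h9 ht ht'
    have h3 := pw (P ⊓ Cen (zpowers t)) inf_le_left
    have h4 := q9_two_le hu h1
    have h5 := q9_mod hT h9 ht
    rw [Nat.ModEq] at h5
    omega
  obtain ⟨u, hu, hu1, α, hα, hα', eα⟩ := q9_reg hT h9 hc (V := ⊥) bot_le (Or.inl (by rw [Subgroup.card_bot]; omega))
  rw [Subgroup.mem_bot] at hu1
  have mu := q9_mem.2 ⟨hu, eα⟩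
  have cV := c4 α hα hα' u mu hu1
  obtain ⟨w, hw, hwV, β, hβ, hβ', eβ⟩ := q9_reg hT h9 hc (V := P ⊓ Cen (zpowers α)) inf_le_left (Or.inl (by omega))
  have hw1 : w ≠ 1 := fun h => hwV (h ▸ one_mem _)
  have mw := q9_mem.2 ⟨hw, eβ⟩
  have cW := c4 β hβ hβ' w mw hw1
  have nV := q9_nor hT h9 hα
  have nW := q9_nor hT h9 hβ
  have fW : ∀ x, x ∈ P ⊓ Cen (zpowers β) ↔ x ∈ P ∧ β * x * β⁻¹ = x := fun x => q9_mem
  have hV : P ⊓ Cen (zpowers α) ≤ P := inf_le_left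
  have hW : P ⊓ Cen (zpowers β) ≤ P := inf_le_left
  generalize P ⊓ Cen (zpowers α) = V at *
  generalize P ⊓ Cen (zpowers β) = W at *
  have dis : V ⊓ W = ⊥ := by
    by_contra hn
    have h1 := (V ⊓ W).one_lt_card_iff_ne_bot.2 hn
    have h2 := q9_two hP hT h9 hβ hV (nV hβ) (F := V ⊓ W) inf_le_left
      (q9_cen.2 fun x hx => ((fW x).1 hx.2).2) (by omega)
    have h3 : V = W := Subgroup.eq_of_le_of_card_ge (fun x hx => (fW x).2 ⟨hV hx, q9_cen.1 h2 x hx⟩) (by omega)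
    exact hwV (h3 ▸ mw)
  have dec : ∀ x ∈ P, ∃ a ∈ V, ∃ b ∈ W, x = a * b := by
    let f : V × W → P := fun p => ⟨p.1 * p.2, mul_mem (hV p.1.2) (hW p.2.2)⟩
    have fi : Function.Injective f := by
      rintro ⟨a, b⟩ ⟨a', b'⟩ e
      have e : (a : G) * b = a' * b' := congrArg Subtype.val e
      have h1 : (a' : G)⁻¹ * a = b' * (b : G)⁻¹ := by
        rw [inv_mul_eq_iff_eq_mul, ← mul_assoc, ← e, mul_inv_cancel_right]
      have h2 : (a' : G)⁻¹ * a ∈ V ⊓ W := 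
        Subgroup.mem_inf.2 ⟨mul_mem (inv_mem a'.2) a.2, h1 ▸ mul_mem b'.2 (inv_mem b.2)⟩
      rw [dis, Subgroup.mem_bot] at h2
      rw [h2] at h1
      exact Prod.ext (Subtype.ext (inv_mul_eq_one.1 h2).symm) (Subtype.ext (mul_inv_eq_one.1 h1.symm).symm)
    intro x hx
    obtain ⟨⟨a, b⟩, e⟩ := (fi.bijective_of_nat_card_le (by rw [Nat.card_prod, cV, cW, c16])).2 ⟨x, hx⟩
    exact ⟨a, a.2, b, b.2, (congrArg Subtype.val e).symm⟩
  have cm : ∀ a ∈ P, ∀ b ∈ P, Commute a b := fun a ha b hb => H86.mem_Cen.1 (hab hb) a ha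
  obtain ⟨w1, s1⟩ := q9_wg hP hab hT h9 hV hW cV cW nV nW dec mu hu1 mw hw1 hβ hβ' eβ
  obtain ⟨w2, s2⟩ := q9_wg hP hab hT h9 hW hV cW cV nW nV (fun x hx =>
    let ⟨a, ha, b, hb, e⟩ := dec x hx
    ⟨b, hb, a, ha, e.trans (cm a (hV ha) b (hW hb)).eq⟩) mw hw1 mu hu1 hα hα' eα
  refine ⟨V, W, u, w, c16, fun x hx => ?_, cV, cW, dis, nV, nW, w1, w2⟩
  obtain ⟨a, ha, b, hb, rfl⟩ := dec x hx
  rw [(cm a (hV ha) b (hW hb)).mul_pow, s1 a ha, s2 b hb, one_mul]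

end H85.C16
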