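import Mathlib
import Cfsg.Agent.Lib.C16.Q9
import Cfsg.Agent.Lib.OL5.BA

set_option autoImplicit false
set_option linter.unusedSectionVars false

namespace H85.C16

open H86 (Cen Nor)
open Subgroup (zpowers center closure)

variable {G : Type*} [Group G] [Finite G] {D P T F : Subgroup G} {z b : G}

theorem q16_cent {Q : Type*} [Group Q] [Finite Q] (hd : Nat.card Q ∣ 45) {β : Q} (hb : β ^ 5 = 1)
    (a : Q) : a * β * a⁻¹ = β := by
  haveI : Fact (Nat.Prime 5) := ⟨Nat.prime_five⟩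
  have hp : IsPGroup 5 (zpowers β) := H81.FB.Pe.zp ⟨1, by rw [pow_one, hb]⟩
  obtain ⟨S, hS⟩ := hp.exists_le_sylow
  obtain ⟨k, hk⟩ := IsPGroup.iff_card.1 S.isPGroup'
  have h1 : 5 ^ k ∣ 45 := hk ▸ (Subgroup.card_subgroup_dvd_card _).trans hd
  have h2 : k ≤ 1 := by
    by_contra h
    have := (pow_dvd_pow 5 (show 2 ≤ k by omega)).trans h1
    norm_num at this
  have hn : Nat.card (Sylow 5 Q) = 1 := by
    have a1 := card_sylow_modEq_one 5 Q
    have a2 : Nat.card (Sylow 5 Q) ∣ 45 := S.card_dvd_index.trans ((Subgroup.index_dvd_card _).trans hd)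
    have a3 := Nat.le_of_dvd (by norm_num) a2
    unfold Nat.ModEq at a1
    generalize Nat.card (Sylow 5 Q) = n at a1 a2 a3
    interval_cases n <;> omega
  haveI : Subsingleton (Sylow 5 Q) := (Nat.card_eq_one_iff_unique.1 hn).1
  haveI : (S : Subgroup Q).Normal := Sylow.normal_of_subsingleton S
  have h4 : Nat.card (MulAut S) ∣ 4 := by
    interval_cases k
    · haveI : Subsingleton S := (Nat.card_eq_one_iff_unique.1 (by simpa using hk)).1
      haveI : Subsingleton (MulAut S) := ⟨fun x y => MulEquiv.ext fun _ => Subsingleton.elim _ _⟩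
      rw [Nat.card_of_subsingleton (1 : MulAut S)]; exact one_dvd _
    · haveI : IsCyclic S := isCyclic_of_prime_card (p := 5) (by simpa using hk)
      rw [IsCyclic.card_mulAut, hk]; decide
  have h5 : (MulAut.conjNormal a : MulAut (S : Subgroup Q)) = 1 := by
    rw [← orderOf_eq_one_iff]
    have b1 := (orderOf_dvd_natCard (MulAut.conjNormal a : MulAut (S : Subgroup Q))).trans h4
    have b2 := ((orderOf_map_dvd (MulAut.conjNormal : Q →* MulAut (S : Subgroup Q)) a).trans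
      (orderOf_dvd_natCard a)).trans hd
    exact Nat.eq_one_of_dvd_coprimes (by norm_num : Nat.Coprime 4 45) b1 b2
  exact congrArg Subtype.val (DFunLike.congr_fun h5 ⟨β, hS (Subgroup.mem_zpowers β)⟩)

theorem q16_elt {q : ℕ} (hq : q.Prime) (hT : T ≤ Nor P) (h : q ∣ (Cen P).relIndex T) :
    ∃ t ∈ T, (∃ k, t ^ q ^ k = 1) ∧ t ^ q ∈ Cen P ∧ t ∉ Cen P := by
  haveI := Fact.mk hq
  haveI : ((Cen P).subgroupOf T).Normal :=
    Subgroup.normal_subgroupOf_of_le_normalizer (hT.trans (H86.Nor_le_Nor_Cen P))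
  obtain ⟨x, hx⟩ := exists_prime_orderOf_dvd_card' (G := T ⧸ (Cen P).subgroupOf T) q h
  obtain ⟨s, rfl⟩ := QuotientGroup.mk_surjective x
  obtain ⟨k, m, hm, e⟩ := Nat.exists_eq_pow_mul_and_not_dvd (orderOf_pos s).ne' q hq.ne_one
  refine ⟨(s ^ m : T), (s ^ m).2, ⟨k, ?_⟩, ?_, fun hc => hm ?_⟩
  · rw [← Subgroup.coe_pow, ← pow_mul, mul_comm, ← e, pow_orderOf_eq_one]; rfl
  · rw [← Subgroup.coe_pow, ← Subgroup.mem_subgroupOf, ← QuotientGroup.eq_one_iff, ← pow_mul, mul_comm,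
      pow_mul, QuotientGroup.mk_pow, QuotientGroup.mk_pow, ← hx, pow_orderOf_eq_one, one_pow]
  · rw [← Subgroup.mem_subgroupOf, ← QuotientGroup.eq_one_iff, QuotientGroup.mk_pow] at hc
    exact hx ▸ orderOf_dvd_of_pow_eq_one hc

theorem q16_lt {t : G} (h : t ∉ Cen P) : Nat.card (P ⊓ Cen (zpowers t) : Subgroup G) < Nat.card P :=
  H1.card_lt_of_lt (lt_of_le_of_ne inf_le_left fun e => h
    (Subgroup.le_centralizer_iff.1 (inf_eq_left.1 e) (Subgroup.mem_zpowers t)))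

theorem q16_card (hP : IsPGroup 2 P) (hc : Nat.card P ≤ 16) : Nat.card P ∣ 16 := by
  obtain ⟨k, hk⟩ := IsPGroup.iff_card.1 hP
  rw [hk] at hc ⊢
  exact pow_dvd_pow (n := 4) 2 ((Nat.pow_le_pow_iff_right one_lt_two).1 (hc : 2 ^ k ≤ 2 ^ 4))

theorem q16_num {q n c : ℕ} (hq : q = 5 ∨ q = 11 ∨ q = 13) (hn : n ∣ 16) (hc : c ∣ n) (hl : c < n)
    (hm : n ≡ c [MOD q]) : q = 5 ∧ n = 16 ∧ c = 1 := by
  have := Nat.le_of_dvd (by norm_num) hn
  unfold Nat.ModEq at hm
  rcases hq with rfl | rfl | rfl <;> interval_cases n <;> interval_cases c <;> omega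

theorem q16_fix {p k : ℕ} (hp : p.Prime) (hT : T ≤ Nor P) (h : (Cen P).relIndex T = p ^ k) :
    Nat.card P ≡ Nat.card (P ⊓ Cen T : Subgroup G) [MOD p] := by
  haveI := Fact.mk hp
  have hE : IsPGroup p ((T.subgroupOf (Nor P)).map P.normalizerMonoidHom) :=
    IsPGroup.of_card ((OL5.em_card hT).trans h)
  have := hE.card_modEq_card_fixedPoints P
  rwa [Nat.card_congr (α := MulAction.fixedPoints
      ((T.subgroupOf (Nor P)).map P.normalizerMonoidHom) P) (β := (P ⊓ Cen T : Subgroup G))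
    ⟨fun a => ⟨a.1, a.1.2, fun n hn => mul_inv_eq_iff_eq_mul.1
        (congrArg Subtype.val (a.2 ⟨_, ⟨n, hT hn⟩, hn, rfl⟩))⟩,
      fun a => ⟨⟨a.1, a.2.1⟩, fun ⟨_, n, hn, e⟩ => Subtype.ext (by
        subst e; exact mul_inv_eq_iff_eq_mul.2 (a.2.2 n hn))⟩,
      fun _ => rfl, fun _ => rfl⟩] at this

theorem q16_mul {u : G} (hu : u ∈ P) : (Cen P).relIndex (T ⊓ Cen (zpowers u)) *
    (Cen (zpowers u)).relIndex T = (Cen P).relIndex T := by
  rw [inf_comm, Subgroup.relIndex_inf_mul_relIndex,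
    inf_eq_left.2 (Subgroup.centralizer_le (Subgroup.zpowers_le.2 hu))]

theorem q16_free (hP : IsPGroup 2 P) (hc : Nat.card P ≤ 16) (hT : T ≤ Nor P)
    (h5 : 5 ∣ (Cen P).relIndex T) (hd : (Cen P).relIndex T ∣ 45) :
    ∀ g ∈ T, ∀ x ∈ P, x ≠ 1 → g * x * g⁻¹ = x → g ∈ Cen P := by
  intro g hg x hx x1 hf
  haveI : ((Cen P).subgroupOf T).Normal :=
    Subgroup.normal_subgroupOf_of_le_normalizer (hT.trans (H86.Nor_le_Nor_Cen P))
  obtain ⟨t, ht, pt, t5, tn⟩ := q16_elt Nat.prime_five hT h5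
  have pz : IsPGroup 5 (zpowers t) := H81.FB.Pe.zp pt
  obtain ⟨-, c16, c1⟩ := q16_num (Or.inl rfl) (q16_card hP hc) (Subgroup.card_dvd_of_le inf_le_left)
    (q16_lt tn) (OL5.card_fix_modEq Nat.prime_five pz (Subgroup.zpowers_le.2 (hT ht)))
  have cm : ∀ a ∈ T, t⁻¹ * (a * t * a⁻¹) ∈ Cen P := fun a ha => by
    have := q16_cent (Q := T ⧸ (Cen P).subgroupOf T) hd (β := ((⟨t, ht⟩ : T) : T ⧸ _))
      (by rw [← QuotientGroup.mk_pow, QuotientGroup.eq_one_iff]; exact t5) ((⟨a, ha⟩ : T) : T ⧸ _)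
    rw [← QuotientGroup.mk_inv, ← QuotientGroup.mk_mul, ← QuotientGroup.mk_mul] at this
    exact Subgroup.mem_subgroupOf.1 (QuotientGroup.eq.1 this.symm)
  have hn : t ∈ Nor (P ⊓ Cen (zpowers g) : Subgroup G) := by
    refine Subgroup.mem_normalizer_fintype fun y hy => ⟨H81.FB.cjm (hT ht) hy.1, ?_⟩
    have e1 : g * y = y * g := H86.mem_Cen_zpowers.1 hy.2
    have e2 : y * (t⁻¹ * (g * t * g⁻¹)) = t⁻¹ * (g * t * g⁻¹) * y := cm g hg y hy.1
    refine H86.mem_Cen_zpowers.2 ?_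
    calc g * (t * y * t⁻¹) = t * (t⁻¹ * (g * t * g⁻¹)) * (g * y) * t⁻¹ := by group
      _ = t * (t⁻¹ * (g * t * g⁻¹) * y) * g * t⁻¹ := by rw [e1]; group
      _ = _ := by rw [← e2]; group
  have a1 := OL5.card_fix_modEq Nat.prime_five pz (Subgroup.zpowers_le.2 hn)
  have a2 : (P ⊓ Cen (zpowers g)) ⊓ Cen (zpowers t) = ⊥ :=
    eq_bot_iff.2 ((inf_le_inf_right _ inf_le_left).trans (Subgroup.card_eq_one.1 c1).le)
  rw [a2, Subgroup.card_bot] at a1
  have a3 : 1 < Nat.card (P ⊓ Cen (zpowers g) : Subgroup G) :=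
    (Subgroup.one_lt_card_iff_ne_bot _).2 fun e => x1 (Subgroup.mem_bot.1
      (e.le ⟨hx, H86.mem_Cen_zpowers.2 (mul_inv_eq_iff_eq_mul.1 hf)⟩))
  by_contra hg'
  have a4 := q16_lt hg'
  have a5 := Subgroup.card_dvd_of_le (inf_le_left : P ⊓ Cen (zpowers g) ≤ P)
  rw [c16] at a4 a5
  unfold Nat.ModEq at a1
  generalize Nat.card (P ⊓ Cen (zpowers g) : Subgroup G) = n at a1 a3 a4 a5
  interval_cases n <;> omega

theorem q16_ne (hP : IsPGroup 2 P) (hab : P ≤ Cen P) (hc : Nat.card P ≤ 16) (hT : T ≤ Nor P) :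
    (Cen P).relIndex T ≠ 27 := by
  intro h
  have c16 : Nat.card P = 16 := by
    obtain ⟨u, hu, h3 | h3⟩ := OL5.exists_stab hP hab (by omega) hT (by omega)
    · have a1 := q16_mul (T := T) hu
      have a2 := OL5.e16_idx hT hu
      have a3 := Nat.le_of_dvd (by norm_num) h3
      have a4 := q16_card hP hc
      rw [h] at a1
      have : 9 ≤ Nat.card P := by nlinarith
      generalize Nat.card P = n at this hc a4
      interval_cases n <;> omega
    · omega
  have k9 : ∀ v ∈ P, v ≠ 1 → 9 ≤ (Cen (zpowers v)).relIndex T := fun v hv v1 => by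
    have a1 := q16_mul (T := T) hv
    rw [h] at a1
    have a2 : (Cen P).relIndex (T ⊓ Cen (zpowers v)) ∣ 3 ^ 3 := Dvd.intro _ a1
    obtain ⟨k, -, hk⟩ := (Nat.dvd_prime_pow Nat.prime_three).1 a2
    have a3 := q16_fix Nat.prime_three (inf_le_left.trans hT) hk
    have a4 : 1 < Nat.card (P ⊓ Cen (T ⊓ Cen (zpowers v)) : Subgroup G) :=
      (Subgroup.one_lt_card_iff_ne_bot _).2 fun e => v1 (Subgroup.mem_bot.1
        (e.le ⟨hv, Subgroup.le_centralizer_iff.1 inf_le_right (Subgroup.mem_zpowers v)⟩))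
    have a5 := OL5.relIndex_dvd_three hP (inf_le_left.trans hT : T ⊓ Cen (zpowers v) ≤ _)
      (fun h2 => by have := h2.trans a2; omega) (inf_le_left : P ⊓ Cen (T ⊓ Cen (zpowers v)) ≤ P)
      (Subgroup.le_centralizer_iff.1 inf_le_right)
      (by rw [c16] at a3 ⊢; unfold Nat.ModEq at a3; omega)
    have a6 := Nat.le_of_dvd (by norm_num) a5
    nlinarith
  letI := MulDistribMulAction.compHom P (P.normalizerMonoidHom.comp (Subgroup.inclusion hT))
  have sm : ∀ (t : T) (a : P), ((t • a : P) : G) = t * a * (t : G)⁻¹ := fun t a => rfl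
  have ob : ∀ v : P, (MulAction.orbit T v).ncard = (Cen (zpowers (v : G))).relIndex T := fun v => by
    rw [← MulAction.index_stabilizer, Subgroup.relIndex]
    congr 1
    ext t
    rw [MulAction.mem_stabilizer_iff, Subgroup.mem_subgroupOf, H86.mem_Cen_zpowers, Subtype.ext_iff, sm,
      mul_inv_eq_iff_eq_mul, eq_comm]
  have o9 : ∀ v : P, v ≠ 1 → (MulAction.orbit T v).ncard = 9 := fun v v1 => by
    have a1 := k9 v v.2 fun e => v1 (Subtype.ext e)
    have a2 := OL5.e16_idx hT v.2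
    have a3 : (Cen (zpowers (v : G))).relIndex T ∣ 27 := Dvd.intro_left _ ((q16_mul v.2).trans h)
    rw [ob]
    rw [c16] at a2
    generalize (Cen (zpowers (v : G))).relIndex T = n at a1 a2 a3
    interval_cases n <;> omega
  haveI : Nontrivial P := Finite.one_lt_card_iff_nontrivial.1 (by omega)
  obtain ⟨u, u1⟩ := exists_ne (1 : P)
  obtain ⟨v, hv⟩ : ∃ v : P, v ∉ insert (1 : P) (MulAction.orbit T u) := by
    by_contra hn
    push Not at hn
    have a1 := Set.ncard_insert_le (1 : P) (MulAction.orbit T u)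
    rw [Set.eq_univ_of_forall hn, Set.ncard_univ, o9 u u1] at a1
    omega
  rw [Set.mem_insert_iff, not_or] at hv
  rcases MulAction.orbit.eq_or_disjoint (G := T) u v with e | e
  · exact hv.2 (e ▸ MulAction.mem_orbit_self v)
  · have a1 := Set.ncard_union_eq e
    have a2 := Set.ncard_le_card (MulAction.orbit T u ∪ MulAction.orbit T v)
    rw [o9 u u1, o9 v hv.1] at a1
    omega

theorem cls16 (hP : IsPGroup 2 P) (hab : P ≤ Cen P) (hc : Nat.card P ≤ 16) (hT : T ≤ Nor P)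
    (ho : ¬ 2 ∣ (Cen P).relIndex T) :
    (Cen P).relIndex T ∣ 3 ∨ (∀ g ∈ T, ∀ x ∈ P, x ≠ 1 → g * x * g⁻¹ = x → g ∈ Cen P) ∨
      (∃ t ∈ T, ¬ 2 ∣ orderOf t ∧ t ^ 7 ∈ Cen P ∧ t ∉ Cen P) ∨
      ∃ V₁ V₂ u₁ u₂, X9G P T V₁ V₂ u₁ u₂ := by
  by_cases h7 : 7 ∣ (Cen P).relIndex T
  · obtain ⟨t, ht, ⟨k, hk⟩, t7, tn⟩ := q16_elt (by norm_num) hT h7
    refine Or.inr (Or.inr (Or.inl ⟨t, ht, fun h2 => ?_, t7, tn⟩))
    have := Nat.prime_two.dvd_of_dvd_pow (h2.trans (orderOf_dvd_of_pow_eq_one hk))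
    omega
  have nq : ∀ q : ℕ, q.Prime → q = 11 ∨ q = 13 → ¬ q ∣ (Cen P).relIndex T := fun q hq h hd => by
    obtain ⟨t, ht, pt, -, tn⟩ := q16_elt hq hT hd
    have := (q16_num (Or.inr h) (q16_card hP hc) (Subgroup.card_dvd_of_le inf_le_left)
      (q16_lt tn) (OL5.card_fix_modEq hq (H81.FB.Pe.zp pt) (Subgroup.zpowers_le.2 (hT ht)))).1
    omega
  have n11 := nq 11 (by norm_num) (Or.inl rfl)
  have n13 := nq 13 (by norm_num) (Or.inr rfl)
  have n27 := q16_ne hP hab hc hT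
  have h45 : (Cen P).relIndex T ∣ 45 := by
    obtain ⟨u, hu, h3 | h3⟩ := OL5.exists_stab hP hab (by omega) hT ho
    · have a1 := q16_mul (T := T) hu
      have a2 := (OL5.e16_idx hT hu).trans hc
      have a3 := Nat.le_of_dvd (by norm_num) h3
      rw [← a1] at ho h7 n11 n13 n27 ⊢
      generalize (Cen P).relIndex (T ⊓ Cen (zpowers u)) = s at *
      generalize (Cen (zpowers u)).relIndex T = o at *
      interval_cases s <;> interval_cases o <;> omega
    · omega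
  by_cases h5 : 5 ∣ (Cen P).relIndex T
  · exact Or.inr (Or.inl (q16_free hP hc hT h5 h45))
  by_cases h9 : (Cen P).relIndex T = 9
  · exact Or.inr (Or.inr (Or.inr (exists_x9 hP hab hc hT h9)))
  left
  have := Nat.le_of_dvd (by norm_num) h45
  generalize (Cen P).relIndex T = n at *
  interval_cases n <;> omega

end H85.C16
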