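import Mathlib
import Cfsg.Agent.Lib.C16.Defs
import Cfsg.Agent.Lib.OL5.GA

set_option autoImplicit false
set_option linter.unusedSectionVars false

namespace H85.C16

open H86 (Cen Nor)
open Subgroup (zpowers center closure)
open scoped commutatorElement

theorem s7_f {C : Type*} [CommGroup C] (f : ℕ → C) (h0 : f 0 = 1) (per : ∀ i, f (i + 7) = f i)
    (a1 : f 1 * f 6 = 1) (a2 : f 2 * f 5 = 1) (a3 : f 3 * f 4 = 1)
    (h : (∀ j, f j * f (j + 1) = 1) ∨ ∃ k < 7, ∀ j, f j * f (j + 1) = f (j + k)) : ∀ i, f i = 1 := by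
  have e7 : f 7 = 1 := (per 0).trans h0
  have e8 : f 8 = f 1 := per 1
  have e9 : f 9 = f 2 := per 2
  have e4 : f 4 = (f 3)⁻¹ := eq_inv_of_mul_eq_one_right a3
  have e5 : f 5 = (f 2)⁻¹ := eq_inv_of_mul_eq_one_right a2
  have e6 : f 6 = (f 1)⁻¹ := eq_inv_of_mul_eq_one_right a1
  have key : f 1 = 1 ∧ f 2 = 1 ∧ f 3 = 1 := by
    rcases h with h | ⟨k, hk, h⟩
    · have h1 := h 0
      have h2 := h 1
      have h3 := h 2
      simp_all
    · have h1 := h 0
      have h2 := h 1
      have h3 := h 2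
      have h4 := h 3
      clear h per a1 a2 a3
      interval_cases k
      · simp_all
      · simp_all
      · simp_all
      · simp_all
      · norm_num [h0, e4, e5, e6] at h1 h2 h3
        have t : f 2 = 1 := by
          rw [h1, inv_inv] at h3
          exact mul_eq_right.1 h3
        rw [t] at h2
        simp_all
      · have t1 : f 1 = 1 := by rw [← e8, ← h4, e4, mul_inv_cancel]
        have t2 : f 2 = 1 := by rw [← inv_eq_one, ← e5, ← h1, h0, t1, one_mul]
        exact ⟨t1, t2, by rw [← e7, ← h3, t2, one_mul]⟩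
      · have t2 : f 2 = 1 := by rw [← e9, ← h4, e4, mul_inv_cancel]
        have t1 : f 1 = 1 := by rw [← e7, ← h2, t2, mul_one]
        exact ⟨t1, t2, by rw [← t1, ← e8, ← h3, t2, one_mul]⟩
  intro i
  induction i using Nat.strong_induction_on with
  | _ i ih =>
    by_cases hi : i < 7
    · interval_cases i <;> simp [h0, e4, e5, e6, key.1, key.2.1, key.2.2]
    · obtain ⟨j, rfl⟩ : ∃ j, i = j + 7 := ⟨i - 7, by omega⟩
      rw [per, ih j (by omega)]

theorem s7_form {V C : Type*} [CommGroup V] [Finite V] [CommGroup C] (hV : IsPGroup 2 V) (hc : Nat.card V ≤ 16)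
    (a : V →* V) (h7 : ∀ v, a^[7] v = v) {v0 : V} (h0 : a v0 ≠ v0) (B : V →* V →* C) (alt : ∀ v, B v v = 1)
    (inv : ∀ v w, B (a v) (a w) = B v w) : ∀ v w, B v w = 1 := by
  classical
  haveI := Fintype.ofFinite V
  haveI : Fact (Nat.Prime 7) := ⟨by decide⟩
  haveI : Fact (Nat.Prime 2) := ⟨Nat.prime_two⟩
  obtain ⟨δ, hδ⟩ : ∃ δ : V →* V, ∀ v, δ v = v⁻¹ * a v :=
    ⟨MonoidHom.mk' (fun v => v⁻¹ * a v) fun v w => by rw [map_mul, mul_inv, mul_mul_mul_comm], fun _ => rfl⟩
  have ker : ∀ v, δ v = 1 ↔ a v = v := fun v => by rw [hδ, inv_mul_eq_one, eq_comm]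
  have aδ : ∀ v, a (δ v) = δ (a v) := fun v => by rw [hδ, hδ, map_mul, map_inv]
  have A : ∀ v, a (δ v) = δ v → δ v = 1 := fun v e => by
    have h1 : ∀ n, a^[n] v = v * δ v ^ n := fun n => by
      induction n with
      | zero => simp
      | succ n ih => rw [Function.iterate_succ_apply', ih, map_mul, map_pow, e, pow_succ', ← mul_assoc, hδ]; simp
    have h2 : δ v ^ 7 = 1 := mul_eq_left.1 ((h1 7).symm.trans (h7 v))
    obtain ⟨k, hk⟩ := hV (δ v)
    exact orderOf_eq_one_iff.1 (Nat.eq_one_of_dvd_coprimes (Nat.Coprime.pow_right k (by norm_num : Nat.Coprime 7 2))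
      (orderOf_dvd_of_pow_eq_one h2) (orderOf_dvd_of_pow_eq_one hk))
  have r1 : δ v0 ≠ 1 := fun e => h0 ((ker _).1 e)
  have mp : Function.minimalPeriod a (δ v0) = 7 :=
    Function.minimalPeriod_eq_prime (h7 _) fun e => r1 (A _ e)
  have it1 : ∀ n, a^[n] 1 = 1 := fun n => iterate_map_one a n
  have ai : Function.Injective a := fun v w e => by
    rw [← h7 v, ← h7 w, Function.iterate_succ_apply a 6 v, Function.iterate_succ_apply a 6 w, e]
  have itR : ∀ n, a^[n] (δ v0) ∈ δ.range := fun n => by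
    induction n with
    | zero => exact ⟨v0, rfl⟩
    | succ n ih =>
      obtain ⟨u, hu⟩ := ih
      exact ⟨a u, by rw [Function.iterate_succ_apply', ← hu, aδ]⟩
  let S : Finset V := insert 1 ((Finset.range 7).image fun i => a^[i] (δ v0))
  have cS : S.card = 8 := by
    rw [Finset.card_insert_of_notMem, Finset.card_image_of_injOn, Finset.card_range]
    · rw [Finset.coe_range, ← mp]
      exact Function.iterate_injOn_Iio_minimalPeriod
    · rw [Finset.mem_image]
      rintro ⟨i, -, e⟩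
      exact r1 (ai.iterate i (e.trans (it1 i).symm))
  have SR : (S : Set V) ⊆ δ.range := by
    intro x hx
    rcases Finset.mem_insert.1 hx with rfl | hx
    · exact one_mem _
    · obtain ⟨i, -, rfl⟩ := Finset.mem_image.1 hx
      exact itR i
  have c1 : 8 ≤ Nat.card δ.range := by
    rw [← cS, ← Set.ncard_coe_finset]
    exact Set.ncard_le_ncard SR
  have c2 : Nat.card δ.range * Nat.card δ.ker = Nat.card V := by
    rw [← Nat.card_congr (QuotientGroup.quotientKerEquivRange δ).toEquiv,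
      ← Subgroup.card_eq_card_quotient_mul_card_subgroup]
  have c3 : Nat.card V ≡ Nat.card δ.ker [MOD 7] := by
    have m := Equiv.Perm.card_fixedPoints_modEq (α := V) (f := (a : V → V)) (p := 7) (n := 1)
      (funext fun v => h7 v)
    rw [Fintype.card_eq_nat_card, Fintype.card_eq_nat_card] at m
    have e : Nat.card (Function.fixedPoints (a : V → V)) = Nat.card δ.ker :=
      Nat.card_congr (Equiv.subtypeEquivRight fun v => (ker v).symm)
    exact e ▸ m
  obtain ⟨n, hn⟩ := IsPGroup.iff_card.1 hV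
  have c4 : 0 < Nat.card δ.ker := Nat.card_pos
  have c5 : Nat.card δ.ker ≤ 2 := by nlinarith
  have c6 : Nat.card δ.range = 8 := by
    have hn4 : n ≤ 4 := (Nat.pow_le_pow_iff_right (by norm_num : 1 < 2)).1 (by rw [← hn]; exact hc)
    rw [hn] at c2 c3
    unfold Nat.ModEq at c3
    generalize Nat.card δ.ker = F at *
    interval_cases n <;> interval_cases F <;> omega
  have eS : (S : Set V) = δ.range := Set.eq_of_subset_of_ncard_le SR (by
    rw [Set.ncard_coe_finset, cS, ← c6]; rfl)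
  have mR : ∀ x ∈ δ.range, x = 1 ∨ ∃ i < 7, x = a^[i] (δ v0) := fun x hx => by
    have : x ∈ (S : Set V) := eS ▸ hx
    rcases Finset.mem_insert.1 this with e | e
    · exact Or.inl e
    · obtain ⟨i, hi, rfl⟩ := Finset.mem_image.1 e
      exact Or.inr ⟨i, Finset.mem_range.1 hi, rfl⟩
  have dec : ∀ v, ∃ c, a c = c ∧ ∃ ρ ∈ δ.range, v = c * ρ := fun v => by
    have inj : Function.Injective fun x : δ.range => (⟨δ x, x, rfl⟩ : δ.range) := by
      rintro ⟨_, x, rfl⟩ ⟨_, y, rfl⟩ e
      have e1 : δ (δ x) = δ (δ y) := congrArg Subtype.val e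
      have e2 : δ (x * y⁻¹) = 1 := A _ ((ker _).1 (by rw [map_mul, map_mul, map_inv, map_inv, e1, mul_inv_cancel]))
      rw [map_mul, map_inv, mul_inv_eq_one] at e2
      exact Subtype.ext e2
    obtain ⟨w, hw⟩ := Finite.injective_iff_surjective.1 inj ⟨δ v, v, rfl⟩
    have e1 : δ w = δ v := congrArg Subtype.val hw
    exact ⟨v * (w : V)⁻¹, (ker _).1 (by rw [map_mul, map_inv, e1, mul_inv_cancel]), w, w.2, by simp⟩
  have anti : ∀ v w, B v w * B w v = 1 := fun v w => by
    have := alt (v * w)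
    simpa [alt, mul_comm] using this
  have cc : ∀ c c', a c = c → a c' = c' → B c c' = 1 := fun c c' h1 h2 => by
    by_cases e1 : c = 1
    · simp [e1]
    by_cases e2 : c' = 1
    · simp [e2]
    by_cases e3 : c = c'
    · rw [e3, alt]
    have h3 : ({1, c, c'} : Set V).ncard = 3 := Set.ncard_eq_three.2 ⟨1, c, c', Ne.symm e1, Ne.symm e2, e3, rfl⟩
    have h4 : ({1, c, c'} : Set V) ⊆ δ.ker := by
      rintro x (rfl | rfl | rfl)
      · exact one_mem _
      · exact (ker _).2 h1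
      · exact (ker _).2 h2
    have := Set.ncard_le_ncard h4
    rw [h3] at this
    exact absurd (this.trans c5) (by norm_num)
  have cρ : ∀ c, a c = c → ∀ ρ ∈ δ.range, B c ρ = 1 := by
    rintro c h1 _ ⟨u, rfl⟩
    have := inv c u
    rw [h1] at this
    rw [hδ, map_mul, map_inv, this, inv_mul_cancel]
  have invn : ∀ n v w, B (a^[n] v) (a^[n] w) = B v w := fun n v w => by
    induction n with
    | zero => rfl
    | succ n ih => rw [Function.iterate_succ_apply', Function.iterate_succ_apply', inv, ih]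
  have sh : ∀ i ≤ 7, ∀ j, B (a^[i] (δ v0)) (a^[j] (δ v0)) = B (δ v0) (a^[j + 7 - i] (δ v0)) := fun i hi j => by
    rw [← invn i (δ v0), ← Function.iterate_add_apply, show i + (j + 7 - i) = j + 7 by omega,
      Function.iterate_add_apply, h7]
  have an : ∀ i ≤ 7, B (δ v0) (a^[i] (δ v0)) * B (δ v0) (a^[7 - i] (δ v0)) = 1 := fun i hi => by
    have := sh i hi 0
    rw [zero_add] at this
    rw [← this]
    exact anti _ _
  have ff := s7_f (fun i => B (δ v0) (a^[i] (δ v0))) (alt _)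
    (fun i => by rw [Function.iterate_add_apply, h7]) (an 1 (by norm_num)) (an 2 (by norm_num))
    (an 3 (by norm_num)) (by
      have st : ∀ j, B (δ v0) (a^[j] (δ v0)) * B (δ v0) (a^[j + 1] (δ v0)) =
          B (δ v0) (a^[j] (δ v0 * a (δ v0))) := fun j => by
        rw [iterate_map_mul, map_mul, Function.iterate_succ_apply]
      rcases mR _ (mul_mem (itR 0) (itR 1)) with e | ⟨k, hk, e⟩
      · exact Or.inl fun j => by rw [st, show δ v0 * a (δ v0) = 1 from e, it1, map_one]
      · exact Or.inr ⟨k, hk, fun j => by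
          rw [st, show δ v0 * a (δ v0) = _ from e, Function.iterate_add_apply]⟩)
  have ρρ : ∀ ρ ∈ δ.range, ∀ ρ' ∈ δ.range, B ρ ρ' = 1 := fun ρ h1 ρ' h2 => by
    rcases mR ρ h1 with rfl | ⟨i, hi, rfl⟩
    · simp
    rcases mR ρ' h2 with rfl | ⟨j, -, rfl⟩
    · simp
    rw [sh i hi.le]
    exact ff _
  intro v w
  obtain ⟨c, h1, ρ, h2, rfl⟩ := dec v
  obtain ⟨c', h3, ρ', h4, rfl⟩ := dec w
  have := anti c' ρ
  rw [cρ c' h3 ρ h2, one_mul] at this
  simp [cc c c' h1 h3, cρ c h1 ρ' h4, ρρ ρ h2 ρ' h4, this]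

variable {D K : Type*} [Group D] [Finite D] [Group K] {φ : D →* K} {y : D} {α : MulAut D}

theorem ab_of_seven (hD : IsPGroup 2 D) (hy : y ∈ center D) (hk : φ.ker = zpowers y)
    (hc : Nat.card φ.range ≤ 16) (hab : φ.range ≤ Cen φ.range) (hα : α y = y)
    (h7 : ∀ x, φ ((α ^ 7) x) = φ x) (hn : ∃ x, φ (α x) ≠ φ x) : ∀ a b : D, a * b = b * a := by
  have hs := φ.rangeRestrict_surjective
  haveI : Finite φ.range := Finite.of_surjective _ hs
  letI : CommGroup φ.range := { mul_comm := fun a b => Subtype.ext (H86.mem_Cen.1 (hab b.2) a a.2) }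
  letI : CommGroup (center D) := { mul_comm := fun a b => Subtype.ext (Subgroup.mem_center_iff.1 b.2 a) }
  have kc : ∀ {x}, φ.rangeRestrict x = 1 → x ∈ zpowers y := fun {x} e => by
    rw [← hk]
    exact congrArg Subtype.val e
  have zc : zpowers y ≤ center D := Subgroup.zpowers_le.2 hy
  have αz : ∀ x ∈ zpowers y, α x = x := by
    rintro _ ⟨i, rfl⟩
    exact (map_zpow α y i).trans (by rw [hα])
  have cz : ∀ x w : D, ⁅x, w⁆ ∈ zpowers y := fun x w => kc (by
    rw [map_commutatorElement, commutatorElement_eq_one_iff_mul_comm, mul_comm])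
  have cm : ∀ {z : D}, z ∈ zpowers y → ∀ g : D, g * z * g⁻¹ = z := fun hz g => by
    rw [Subgroup.mem_center_iff.1 (zc hz) g, mul_inv_cancel_right]
  have ml : ∀ x x' w : D, ⁅x * x', w⁆ = ⁅x, w⁆ * ⁅x', w⁆ := fun x x' w => by
    rw [commutatorElement_mul_left_eq_conj_mul, cm (cz x' w), Subgroup.mem_center_iff.1 (zc (cz x' w))]
  have mr : ∀ x w w' : D, ⁅x, w * w'⁆ = ⁅x, w⁆ * ⁅x, w'⁆ := fun x w w' => by
    rw [← cm (cz x w') w]
    simp only [commutatorElement_def]
    group
  have cg : ∀ {x x' w w' : D}, φ.rangeRestrict x = φ.rangeRestrict x' → φ.rangeRestrict w = φ.rangeRestrict w' →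
      ⁅x, w⁆ = ⁅x', w'⁆ := fun {x x' w w'} e1 e2 => by
    have k1 := zc (kc (x := x'⁻¹ * x) (by rw [map_mul, map_inv, e1, inv_mul_cancel]))
    have k2 := zc (kc (x := w'⁻¹ * w) (by rw [map_mul, map_inv, e2, inv_mul_cancel]))
    have t1 : ⁅x'⁻¹ * x, w⁆ = 1 :=
      commutatorElement_eq_one_iff_mul_comm.2 (Subgroup.mem_center_iff.1 k1 w).symm
    have t2 : ⁅x', w'⁻¹ * w⁆ = 1 :=
      commutatorElement_eq_one_iff_mul_comm.2 (Subgroup.mem_center_iff.1 k2 x')
    calc ⁅x, w⁆ = ⁅x' * (x'⁻¹ * x), w⁆ := by rw [mul_inv_cancel_left]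
      _ = ⁅x', w' * (w'⁻¹ * w)⁆ := by rw [ml, t1, mul_one, mul_inv_cancel_left]
      _ = ⁅x', w'⁆ := by rw [mr, t2, mul_one]
  choose s hs' using hs
  obtain ⟨B, hB⟩ : ∃ B : φ.range →* φ.range →* center D, ∀ v w, (B v w : D) = ⁅s v, s w⁆ :=
    ⟨MonoidHom.mk' (fun v => MonoidHom.mk' (fun w => ⟨⁅s v, s w⁆, zc (cz _ _)⟩) fun w w' =>
      Subtype.ext ((cg rfl (by rw [map_mul, hs', hs', hs'])).trans (mr _ _ _))) fun v v' =>
      MonoidHom.ext fun w => Subtype.ext ((cg (by rw [map_mul, hs', hs', hs']) rfl).trans (ml _ _ _)),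
      fun _ _ => rfl⟩
  have wd : ∀ {x x' : D}, φ.rangeRestrict x = φ.rangeRestrict x' →
      φ.rangeRestrict (α x) = φ.rangeRestrict (α x') := fun {x x'} e => by
    have k1 : φ.rangeRestrict (x'⁻¹ * x) = 1 := by rw [map_mul, map_inv, e, inv_mul_cancel]
    rw [← αz _ (kc k1), map_mul, map_mul, map_inv, map_inv, inv_mul_eq_one] at k1
    exact k1.symm
  obtain ⟨a, ha⟩ : ∃ a : φ.range →* φ.range, ∀ v, a v = φ.rangeRestrict (α (s v)) :=
    ⟨MonoidHom.mk' (fun v => φ.rangeRestrict (α (s v))) fun v w => by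
      rw [← map_mul, ← map_mul]
      exact wd (by rw [map_mul, hs', hs', hs']), fun _ => rfl⟩
  have ha' : ∀ x, a (φ.rangeRestrict x) = φ.rangeRestrict (α x) := fun x => by rw [ha]; exact wd (hs' _)
  have han : ∀ n x, a^[n] (φ.rangeRestrict x) = φ.rangeRestrict ((α ^ n) x) := fun n x => by
    induction n with
    | zero => rfl
    | succ n ih => rw [Function.iterate_succ_apply', ih, ha', pow_succ', MulAut.mul_apply]
  obtain ⟨x0, hx0⟩ := hn
  have key := s7_form (hD.of_surjective _ φ.rangeRestrict_surjective) hc a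
    (fun v => by rw [← hs' v, han]; exact Subtype.ext (h7 _)) (v0 := φ.rangeRestrict x0)
    (fun e => hx0 (congrArg Subtype.val ((ha' x0).symm.trans e))) B
    (fun v => Subtype.ext (by rw [hB]; exact commutatorElement_self _))
    (fun v w => Subtype.ext (by
      rw [hB, hB, cg ((hs' _).trans (ha v)) ((hs' _).trans (ha w)), ← map_commutatorElement, αz _ (cz _ _)]))
  intro x w
  rw [← commutatorElement_eq_one_iff_mul_comm, ← cg (hs' (φ.rangeRestrict x)) (hs' (φ.rangeRestrict w)), ← hB, key]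
  rfl

end H85.C16
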