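import Mathlib
import Cfsg.Agent.Lib.C16.MA
import Cfsg.Agent.Lib.C16.X9
import Cfsg.Agent.Lib.C16.Q16
import Cfsg.Agent.Lib.C16.S7
import Cfsg.Agent.Lib.C16.N3

set_option autoImplicit false
set_option linter.unusedSectionVars false
set_option linter.style.haveILetI false
attribute [local irreducible] H33.instFieldF

namespace H85.C16

open Cfsg H84 H85 K44
open H33 (F eB)
open H86 (Cen Nor cj cs eS St Mor)
open Subgroup (zpowers center closure)
open scoped SubFin commutatorElement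

universe u

variable {G : Type u} [Group G] [Fintype G] {p : ℕ} [Fact p.Prime] {M : Ideal AlgInt} [M.IsMaximal]
  {B : Set (IrrCharacter G)} {P N V₁ V₂ : Subgroup G} {e : MonoidAlgebra (F M) G} {u w u₁ u₂ : G}

theorem mq_rel {K : Type*} [Group K] [Finite K] {Q S T : Subgroup K} (h : T ≤ S) (hS : S ≤ Nor Q) :
    (Cen Q).relIndex T ∣ (Cen Q).relIndex S := by
  rw [← OL5.em_card hS, ← OL5.em_card (h.trans hS)]
  exact Subgroup.card_dvd_of_le (Subgroup.map_mono (Subgroup.comap_mono h))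

theorem mq_ab9 {K : Type*} [Group K] [Finite K] {Q : Subgroup K} (hQ : IsPGroup 3 Q)
    (hc : Nat.card Q ≤ 9) : Q ≤ Cen Q := by
  haveI : Fact (Nat.Prime 3) := ⟨Nat.prime_three⟩
  obtain ⟨k, hk⟩ := IsPGroup.iff_card.1 hQ
  have hk2 : k ≤ 2 := by
    by_contra h
    have : 3 ^ 3 ≤ 3 ^ k := Nat.pow_le_pow_right (by norm_num) (by omega)
    omega
  have key : ∀ a b : Q, a * b = b * a := by
    interval_cases k
    · haveI : Subsingleton Q := (Nat.card_eq_one_iff_unique.1 (by simpa using hk)).1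
      exact fun a b => Subsingleton.elim _ _
    · haveI : IsCyclic Q := isCyclic_of_prime_card (p := 3) (by simpa using hk)
      exact IsCyclic.isMulCommutative.is_comm.comm
    · exact (IsPGroup.isMulCommutative_of_card_eq_prime_sq hk).is_comm.comm
  exact fun u hu => Subgroup.mem_centralizer_iff.2 fun v hv =>
    congrArg Subtype.val (key ⟨v, hv⟩ ⟨u, hu⟩)

theorem mq_card {D K : Type*} [Group D] [Finite D] [Group K] {φ : D →* K} {y : D} {n : ℕ}
    (hk : φ.ker = zpowers y) (hc : Nat.card D ≤ n * orderOf y) : Nat.card φ.range ≤ n := by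
  rw [Subgroup.card_eq_card_quotient_mul_card_subgroup φ.ker,
    Nat.card_congr (QuotientGroup.quotientKerEquivRange φ).toEquiv, hk, Nat.card_zpowers] at hc
  exact Nat.le_of_mul_le_mul_right hc (orderOf_pos y)

theorem card_le_non3 (hM : IsPModular 3 M) (hB : IsPBlock M B) (hD : IsDefectGroup 3 M B P)
    {y : P} (hy : y ∈ center P) (hc : Nat.card P ≤ 9 * orderOf y)
    (hn : ¬ ∀ a b : P, a * b = b * a) : Nat.card B ≤ Nat.card P := by
  obtain ⟨K, _, _, c, φ, hc1, hc2, hk, hl, hb⟩ := red hM hB hD y hy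
  obtain ⟨e, m⟩ := exists_mp hM hc1 hc2
  have h9 : Nat.card φ.range ≤ 9 := mq_card hk hc
  have hab : φ.range ≤ Cen φ.range := mq_ab9 m.pgrp h9
  refine hb (Or.inl (latMin_free m hab ?_))
  intro g hg x hx x1 hgx
  have hS : St ⊤ φ.range e ≤ Nor φ.range := H86.St_le_Nor _ _ _
  have := eq_of_reg (p := 3) (K := Cen φ.range ⊓ (St ⊤ φ.range e ⊓ Cen (zpowers x)))
    (T := St ⊤ φ.range e ⊓ Cen (zpowers x)) inf_le_right (fun t ht ho => ?_) (by
      rw [Subgroup.inf_relIndex_right]
      intro h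
      refine m.not_dvd_card_inq hab ?_
      rw [card_inq]
      exact h.trans (mq_rel inf_le_left hS))
  · have hg' : g ∈ St ⊤ φ.range e ⊓ Cen (zpowers x) := by
      refine ⟨hg, Subgroup.mem_centralizer_iff.2 ?_⟩
      rintro _ ⟨n, rfl⟩
      have : Commute x g := (mul_inv_eq_iff_eq_mul.1 hgx).symm
      exact (this.zpow_left n).eq
    rw [← this] at hg'
    exact hg'.1
  · refine ⟨?_, ht⟩
    obtain ⟨α, ho', hα, h⟩ := hl t (hS ht.1) ho
    obtain ⟨u, rfl⟩ := hx
    have hu : φ (α u) = φ u := by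
      rw [h, ← Subgroup.mem_centralizer_iff.1 ht.2 _ (Subgroup.mem_zpowers _), mul_inv_cancel_right]
    refine Subgroup.mem_centralizer_iff.2 ?_
    rintro _ ⟨v, rfl⟩
    have := free3 (H33.defect_isPGroup hD) hy hk h9 hn ho' hα x1 hu v
    rw [h] at this
    exact (mul_inv_eq_iff_eq_mul.1 this).symm

theorem card_le_q2 (hM : IsPModular 2 M) (hB : IsPBlock M B) (hD : IsDefectGroup 2 M B P)
    {y : P} (hy : y ∈ center P) (hc : Nat.card P ≤ 16 * orderOf y)
    (hn : ¬ ∀ a b : P, a * b = b * a) (hq : commutator P ≤ zpowers y) :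
    Nat.card B ≤ Nat.card P := by
  obtain ⟨K, _, _, c, φ, hc1, hc2, hk, hl, hb⟩ := red hM hB hD y hy
  obtain ⟨e, m⟩ := exists_mp hM hc1 hc2
  have h16 : Nat.card φ.range ≤ 16 := mq_card hk hc
  have hab : φ.range ≤ Cen φ.range := by
    rintro _ ⟨a, rfl⟩
    refine Subgroup.mem_centralizer_iff.2 ?_
    rintro _ ⟨b, rfl⟩
    have : ⁅b, a⁆ ∈ φ.ker := by
      rw [hk]
      exact hq (Subgroup.commutator_mem_commutator (Subgroup.mem_top _) (Subgroup.mem_top _))
    rw [MonoidHom.mem_ker, map_commutatorElement, commutatorElement_eq_one_iff_mul_comm] at this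
    exact this
  have hS : St ⊤ φ.range e ≤ Nor φ.range := H86.St_le_Nor _ _ _
  have ho : ¬ 2 ∣ (Cen φ.range).relIndex (St ⊤ φ.range e) := by
    rw [← card_inq]
    exact m.not_dvd_card_inq hab
  rcases cls16 m.pgrp hab h16 hS ho with h | h | ⟨t, ht, ho', h7, hn'⟩ | ⟨V₁, V₂, u₁, u₂, q⟩
  · refine hb (Or.inr ⟨rfl, OL5.rank_le_prime m hab Nat.prime_three ?_⟩)
    rwa [card_inq]
  · exact hb (Or.inl (latMin_free m hab h))
  · obtain ⟨α, -, hα, h⟩ := hl t (hS ht) ho'
    have pw : ∀ (n : ℕ) (x : P), φ ((α ^ n) x) = t ^ n * φ x * (t ^ n)⁻¹ := by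
      intro n
      induction n with
      | zero => intro x; simp
      | succ n ih =>
        intro x
        rw [pow_succ', MulAut.mul_apply, h, ih, pow_succ']
        group
    refine absurd (ab_of_seven (H33.defect_isPGroup hD) hy hk h16 hab hα (fun x => ?_) ?_) hn
    · rw [pw, ← Subgroup.mem_centralizer_iff.1 h7 _ ⟨x, rfl⟩, mul_inv_cancel_right]
    · by_contra hx
      refine hn' (Subgroup.mem_centralizer_iff.2 ?_)
      rintro _ ⟨v, rfl⟩
      have : φ (α v) = φ v := by
        by_contra k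
        exact hx ⟨v, k⟩
      rw [h] at this
      exact (mul_inv_eq_iff_eq_mul.1 this).symm
  · exact hb (bd_x9 m q)

end H85.C16
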