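import Mathlib
import Cfsg.Agent.Lib.C16.Defs
import Cfsg.Agent.Lib.OL5.GA
import Cfsg.Agent.Lib.OL5.GB
import Cfsg.Agent.Lib.K44.GA
import Cfsg.Agent.Lib.K44.GE

set_option autoImplicit false
set_option linter.unusedSectionVars false

namespace H85.C16

open H86 (Cen Nor)
open Subgroup (zpowers center closure)

variable {G : Type*} [Group G] [Finite G] {D P T F : Subgroup G} {z b : G}

theorem nq1_two {A B : Subgroup G} (h : A ≤ B) (hc : Nat.card B = 2 * Nat.card A) {s t : G}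
    (hs : s ∈ B) (hs' : s ∉ A) (ht : t ∈ B) (ht' : t ∉ A) : s⁻¹ * t ∈ A := by
  have e : (A.subgroupOf B).index = 2 := by
    have := Subgroup.card_mul_index (A.subgroupOf B)
    rw [Nat.card_congr (Subgroup.subgroupOfEquivOfLe h).toEquiv, hc, mul_comm] at this
    exact Nat.eq_of_mul_eq_mul_right Nat.card_pos this
  exact (Subgroup.mul_mem_iff_of_index_two e (a := ⟨s, hs⟩⁻¹) (b := ⟨t, ht⟩)).2
    (iff_of_false (fun c => hs' (inv_mem_iff.1 c)) ht')

theorem nq1_eight {A : Subgroup G} (h16 : Nat.card P = 16) (h4 : Nat.card F = 4) (h1 : F < A)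
    (h2 : A < P) : Nat.card A = 8 := by
  have a := Subgroup.card_dvd_of_le h2.le
  have b : Nat.card F < Nat.card A := lt_of_le_of_ne (Subgroup.card_le_of_le h1.le) fun e =>
    h1.ne (Subgroup.eq_of_le_of_card_ge h1.le e.ge)
  have c : Nat.card A < Nat.card P := lt_of_le_of_ne (Subgroup.card_le_of_le h2.le) fun e =>
    h2.ne (Subgroup.eq_of_le_of_card_ge h2.le e.ge)
  rw [h16] at a c
  rw [h4] at b
  generalize Nat.card A = n at a b c
  interval_cases n <;> omega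

theorem nq1_cen {B : Subgroup G} (h : B ≤ P) (hc : Nat.card P = 2 * Nat.card B) {s u : G} (hs : s ∈ P)
    (hs' : s ∉ B) (hu : u ∈ P) (h1 : ∀ x ∈ B, x * u = u * x) (h2 : s * u = u * s) : u ∈ P ⊓ Cen P := by
  refine ⟨hu, fun x hx => ?_⟩
  by_cases c : x ∈ B
  · exact h1 x c
  · have := h1 _ (nq1_two h hc hs hs' hx c)
    calc x * u = s * (s⁻¹ * x * u) := by group
      _ = u * x := by rw [this, ← mul_assoc, h2]; group

theorem nq1_elem {Q : Subgroup G} (h8 : Nat.card Q = 8) (hab : Q ≤ Cen Q) {g : G} (hg : g ∈ Nor Q)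
    (ho : ¬ 2 ∣ orderOf g) (hn : g ∉ Cen Q) {q : G} (hq : q ∈ Q) : q ^ 2 = 1 := by
  by_contra hq2
  have pQ : IsPGroup 2 Q := IsPGroup.of_card (n := 3) h8
  let O : Subgroup G :=
    { carrier := {x | x ∈ Q ∧ x ^ 2 = 1}
      one_mem' := ⟨one_mem _, one_pow _⟩
      mul_mem' := fun {x y} a b => ⟨mul_mem a.1 b.1, by
        rw [Commute.mul_pow (hab b.1 x a.1), a.2, b.2, one_mul]⟩
      inv_mem' := fun a => ⟨inv_mem a.1, by rw [inv_pow, a.2, inv_one]⟩ }
  have le : O ≤ Q := fun _ h => h.1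
  have cj : ∀ x ∈ Q, g * x * g⁻¹ ∈ Q := fun x hx => (Subgroup.mem_normalizer_iff.1 hg x).1 hx
  have nO : g ∈ Nor O := Subgroup.mem_normalizer_fintype fun x hx =>
    ⟨cj x hx.1, by rw [conj_pow, hx.2, mul_one, mul_inv_cancel]⟩
  have key : ∀ F ≤ O, g ∈ Cen F → Nat.card O ≤ 2 * Nat.card F → False := fun F a b c =>
    hn (OL5.cen_of_omega pQ hab hg ho fun x hx h2 => by
      rw [← OL5.cen_of_index_two (pQ.to_le le) a nO ho b c x ⟨hx, h2⟩, mul_inv_cancel_right])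
  have a := Subgroup.card_dvd_of_le le
  have b : Nat.card O < Nat.card Q := lt_of_le_of_ne (Subgroup.card_le_of_le le) fun e =>
    hq2 (Subgroup.eq_of_le_of_card_ge le e.ge ▸ hq : q ∈ O).2
  rw [h8] at a b
  by_cases c : Nat.card O = 4
  · have sq : ∀ x ∈ Q, x ^ 2 ≠ 1 → x ^ 2 = q ^ 2 := fun x hx h => by
      have := nq1_two le (by rw [h8, c]) hq (fun c => hq2 c.2) hx fun c => h c.2
      have e := this.2
      rw [Commute.mul_pow (hab hx _ (inv_mem hq)), inv_pow] at e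
      exact (inv_mul_eq_one.1 e).symm
    have e1 := sq _ (inv_mem hq) (by rwa [inv_pow, Ne, inv_eq_one])
    have e2 := sq _ (cj q hq) (by rwa [conj_pow, Ne, conj_eq_one_iff])
    refine key (zpowers (q ^ 2)) (Subgroup.zpowers_le_of_mem ⟨pow_mem hq 2, ?_⟩) ?_ ?_
    · rw [pow_two, ← inv_eq_iff_mul_eq_one, ← inv_pow, e1]
    · rintro _ ⟨k, rfl⟩
      rw [conj_pow, mul_inv_eq_iff_eq_mul] at e2
      exact (Commute.zpow_left e2.symm k).eq
    · have : Nat.card (zpowers (q ^ 2)) ≠ 1 := by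
        rwa [Nat.card_zpowers, Ne, orderOf_eq_one_iff]
      have := Nat.card_pos (α := zpowers (q ^ 2))
      omega
  · refine key ⊥ bot_le (fun x hx => by rw [Subgroup.mem_bot.1 hx, one_mul, mul_one]) ?_
    rw [Subgroup.card_bot]
    generalize Nat.card O = n at a b c
    interval_cases n <;> omega

theorem qs_of_odd (h16 : Nat.card P = 16) (h4 : Nat.card (P ⊓ Cen P : Subgroup G) = 4)
    {Q : Subgroup G} (hQ : Q < P) (hcen : P ⊓ Cen Q ≤ Q) {g : G} (hg : g ∈ Nor Q)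
    (ho : ¬ 2 ∣ orderOf g) (hn : g ∉ Cen Q) : ∃ k A a c, K44.QS0 k P A a c := by
  have zQ : P ⊓ Cen P ≤ Q := fun x hx => hcen ⟨hx.1, fun y hy => hx.2 y (hQ.le hy)⟩
  have h8 : Nat.card Q = 8 := nq1_eight h16 h4 (lt_of_le_of_ne zQ fun e => hQ.not_ge fun x hx =>
    hcen ⟨hx, fun y hy => ((e ▸ hy : y ∈ P ⊓ Cen P).2 x hx).symm⟩) hQ
  have ab : ∀ {A : Subgroup G}, P ⊓ Cen P ≤ A → A ≤ P → Nat.card A = 8 → ∀ x ∈ A, ∀ y ∈ A, x * y = y * x :=
    fun a b c => OL5.ab_of_index_two a (fun z hz x hx => (hz.2 x (b hx)).symm) (by rw [c, h4])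
  have hab := ab zQ hQ.le h8
  have el : ∀ {q}, q ∈ Q → q ^ 2 = 1 := nq1_elem h8 (fun x hx y hy => hab y hy x hx) hg ho hn
  obtain ⟨a, ha, a2⟩ : ∃ a ∈ P, a ^ 2 ≠ 1 := by
    by_contra! c
    have i : ∀ x ∈ P, x⁻¹ = x := fun x hx => inv_eq_of_mul_eq_one_right (by rw [← pow_two, c x hx])
    have : P ≤ P ⊓ Cen P := fun x hx => ⟨hx, fun y hy => by
      rw [← i _ (mul_mem hy hx), mul_inv_rev, i x hx, i y hy]⟩
    have := Subgroup.card_le_of_le this
    omega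
  have aQ : a ∉ Q := fun c => a2 (el c)
  have iQ : Nat.card P = 2 * Nat.card Q := by rw [h16, h8]
  have o4 : orderOf a = 2 ^ (0 + 2) := by
    have := nq1_two hQ.le iQ (inv_mem ha) (fun c => aQ (inv_mem_iff.1 c)) ha aQ
    rw [inv_inv, ← pow_two] at this
    haveI i2 : Fact (Nat.Prime 2) := ⟨Nat.prime_two⟩
    exact orderOf_eq_prime_pow (n := 1) (by rwa [pow_one]) (by
      rw [show 2 ^ (1 + 1) = 2 * 2 from rfl, pow_mul, el this])
  have c4 : Nat.card (zpowers a) = 4 := by rw [Nat.card_zpowers, o4]; rfl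
  obtain ⟨c, hc, ca⟩ : ∃ c ∈ P ⊓ Cen P, c ∉ zpowers a := by
    by_contra! k
    exact aQ (zQ (Subgroup.eq_of_le_of_card_ge (show P ⊓ Cen P ≤ zpowers a from k)
      (by rw [c4, h4]) ▸ Subgroup.mem_zpowers a))
  let A := P ⊓ Subgroup.centralizer {a}
  have mA : ∀ {u}, u ∈ A ↔ u ∈ P ∧ u * a = a * u := by
    intro u; rw [Subgroup.mem_inf, Subgroup.mem_centralizer_singleton_iff]
  have zA : P ⊓ Cen P ≤ A := fun x hx => mA.2 ⟨hx.1, (hx.2 a ha).symm⟩
  have aA : a ∈ A := mA.2 ⟨ha, rfl⟩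
  have aZ : a ∉ P ⊓ Cen P := fun k => aQ (zQ k)
  have lt : A < P := lt_of_le_of_ne inf_le_left fun e =>
    aZ ⟨ha, fun y hy => (mA.1 (e ▸ hy : y ∈ A)).2⟩
  have a8 : Nat.card A = 8 := nq1_eight h16 h4 (lt_of_le_of_ne zA fun e => aZ (e ▸ aA)) lt
  have iA : Nat.card P = 2 * Nat.card A := by rw [h16, a8]
  have zp : zpowers a ≤ A := Subgroup.zpowers_le_of_mem aA
  refine ⟨0, A, a, c, lt.le, SetLike.exists_of_lt lt, fun s hs hs' t ht ht' => nq1_two lt.le iA hs hs' ht ht',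
    o4, el (zQ hc), ca, hc.2 a ha, fun u => ⟨fun hu => or_iff_not_imp_left.2 fun k => ?_, fun h =>
      h.elim (zp ·) fun h => (mul_mem_cancel_right (zA hc)).1 (zp h)⟩,
    fun s hs hs' u hu => ⟨fun e => el (zQ (nq1_cen lt.le iA hs hs' hu.1
      (fun x hx => ab zA lt.le a8 x hx u hu) e)), fun e => ?_⟩, fun s hs hs' e => ?_⟩
  · have := nq1_two zp (by rw [a8, c4]) (inv_mem hu) (fun c => k (inv_mem_iff.1 c)) (zA hc) ca
    rwa [inv_inv] at this
  · by_contra k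
    have := nq1_two zA (by rw [a8, h4]) aA aZ hu fun c => k (c.2 s hs)
    have e1 := el (zQ this)
    rw [Commute.mul_pow (ab zA lt.le a8 _ (inv_mem aA) u hu), e, mul_one, inv_pow, inv_eq_one] at e1
    exact a2 e1
  · rw [show 2 ^ (0 + 1) = 2 from rfl] at e
    by_cases k : s ∈ Q
    · exact a2 (e ▸ el k)
    · have e1 := el (nq1_two hQ.le iQ ha aQ hs k)
      refine hs' (mA.2 ⟨hs, ?_⟩)
      rw [pow_two, pow_two] at e
      rw [pow_two] at e1
      calc s * a = a * (a⁻¹ * s * (a⁻¹ * s)) * s⁻¹ * (a * a) := by group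
        _ = a * s := by rw [e1, ← e]; group

end H85.C16
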