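import Mathlib
import Cfsg.Agent.Lib.C16.Defs
import Cfsg.Agent.Lib.OL5.GA
import Cfsg.Agent.Lib.OL5.GB
import Cfsg.Agent.Lib.OL5.GT1
import Cfsg.Agent.Lib.K44.GA

set_option autoImplicit false
set_option linter.unusedSectionVars false

namespace H85.C16

open H86 (Cen Nor)
open Subgroup (zpowers center closure)

variable {G : Type*} [Group G] [Finite G] {D P T F : Subgroup G} {z b : G}

theorem cls_non (hP : IsPGroup 2 P) (hc : Nat.card P ≤ 16) (hn : ¬ P ≤ Cen P) :
    K44.AbF P ∨ K44.TmF P ∨
      (Nat.card P = 16 ∧ Nat.card (P ⊓ Cen P : Subgroup G) = 4) := by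
  have hna : ¬ ∀ x y : P, x * y = y * x := fun h => hn fun x hx y hy =>
    congrArg Subtype.val (h ⟨y, hy⟩ ⟨x, hx⟩)
  by_cases h8 : Nat.card P ≤ 8
  · have hg : ∃ g ∈ P, g ^ 2 ≠ 1 := by
      by_contra h
      push Not at h
      refine hna fun x y => ?_
      have h1 : ∀ u : P, u⁻¹ = u := fun u =>
        inv_eq_of_mul_eq_one_right (Subtype.ext (by simpa [pow_two] using h u u.2))
      rw [← h1 (x * y), mul_inv_rev, h1, h1]
    obtain ⟨g, hg, h2⟩ := hg
    exact (K44.fam_of_eight hP h8 hg h2).imp id Or.inl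
  obtain ⟨k, hk⟩ := hP.exists_card_eq
  have h16 : Nat.card P = 16 := by
    have : k ≤ 4 := by
      by_contra h
      have : 2 ^ 5 ≤ 2 ^ k := Nat.pow_le_pow_right (by omega) (by omega)
      omega
    interval_cases k <;> omega
  have hZ : (Cen P).subgroupOf P = center P := by
    ext x
    rw [Subgroup.mem_subgroupOf, Subgroup.mem_center_iff]
    exact ⟨fun h g => Subtype.ext (h g g.2), fun h g hg => congrArg Subtype.val (h ⟨g, hg⟩)⟩
  have e1 := H1.card_inf_mul_relIndex (Cen P) P
  rw [inf_comm, Subgroup.relIndex, hZ, h16] at e1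
  obtain ⟨h4, h4'⟩ := OL5.four_le_index_center hP hna
  have e2 := (center P).index_mul_card
  have e3 := (commutator P).index_mul_card
  rw [h16] at e2 e3
  have hnt : Nontrivial P := Finite.one_lt_card_iff_nontrivial.1 (by omega)
  have hZ1 : 1 < Nat.card (center P) :=
    Finite.one_lt_card_iff_nontrivial.2 hP.center_nontrivial
  have hC1 : Nat.card (commutator P) ≠ 1 := fun h => by
    rw [Subgroup.card_eq_one, commutator, Subgroup.commutator_eq_bot_iff_le_centralizer] at h
    exact hna fun x y => h (Subgroup.mem_top y) x (Subgroup.mem_top x)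
  have i1 : (center P).index ≤ 16 := Nat.le_of_dvd (by omega) ⟨_, e2.symm⟩
  have i2 : (commutator P).index ≤ 16 := Nat.le_of_dvd (by omega) ⟨_, e3.symm⟩
  by_cases i4 : (center P).index = 4
  · rw [i4] at e1
    exact Or.inr (Or.inr ⟨h16, by omega⟩)
  have i8 : (center P).index = 8 := by
    generalize (center P).index = i at e2 i1 i4 h4 ⊢
    interval_cases i <;> omega
  have j4 : (commutator P).index = 4 := by
    have : Nat.card (commutator P) ≠ 2 := fun h => OL5.index_center_ne_eight hP h i8
    generalize (commutator P).index = i at e3 i2 h4' ⊢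
    interval_cases i <;> omega
  obtain ⟨m, a, b, t, h⟩ := OL5.gt_max hP h16.ge j4
  have h1 := h.two
  have h2 := h.le
  have h3 := h.ord
  rw [j4] at h2
  have h5 : Nat.card P ≤ 2 * orderOf (a : G) := by
    rw [Subgroup.orderOf_coe, h3, pow_add]
    omega
  refine (K44.fam_of_idx2 hP a.2 h5 fun hx => ?_).imp id Or.inl
  have h6 : a ^ 2 ∈ center P := Subgroup.mem_center_iff.2 fun g => Subtype.ext (hx g g.2)
  have h7 : (⟨a ^ 2, h6⟩ : center P) ^ Nat.card (center P) = 1 := pow_card_eq_one'
  rw [i8] at e2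
  rw [show Nat.card (center P) = 2 by omega] at h7
  have h9 : (a ^ 2) ^ 2 = 1 := congrArg Subtype.val h7
  rw [← pow_mul] at h9
  exact congrArg Subtype.val h9

end H85.C16
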