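import Mathlib
import Cfsg.Agent.Lib.C16.MQ
import Cfsg.Agent.Lib.C16.C4
import Cfsg.Agent.Lib.C16.NQ1
import Cfsg.Agent.Lib.C16.NQ2
import Cfsg.Agent.Lib.TG.Out
import Cfsg.Agent.Lib.K44.Main

set_option autoImplicit false
set_option linter.unusedSectionVars false
set_option linter.style.haveILetI false
attribute [local irreducible] H33.instFieldF

namespace H85.C16

open Cfsg H84 H85 K44
open H33 (F eB)
open H86 (Cen Nor cj cs eS St Mor)
open Subgroup (zpowers center closure)
open scoped SubFin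

universe u

variable {G : Type u} [Group G] [Fintype G] {p : ℕ} [Fact p.Prime] {M : Ideal AlgInt} [M.IsMaximal]
  {B : Set (IrrCharacter G)} {P N V₁ V₂ : Subgroup G} {e : MonoidAlgebra (F M) G} {u w u₁ u₂ : G}

theorem mn_ab {D K : Type*} [Group D] [Group K] {φ : D →* K} :
    φ.range ≤ Cen φ.range ↔ commutator D ≤ φ.ker := by
  rw [commutator, Subgroup.commutator_le]
  constructor
  · intro h a _ b _
    rw [MonoidHom.mem_ker, map_commutatorElement, commutatorElement_eq_one_iff_mul_comm]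
    exact h ⟨b, rfl⟩ _ ⟨a, rfl⟩
  · rintro h _ ⟨b, rfl⟩ _ ⟨a, rfl⟩
    have := h a trivial b trivial
    rwa [MonoidHom.mem_ker, map_commutatorElement, commutatorElement_eq_one_iff_mul_comm] at this

theorem card_le_four (hM : IsPModular 2 M) (hB : IsPBlock M B) (hD : IsDefectGroup 2 M B P)
    {y : P} (hy : y ∈ center P) (hc : Nat.card P ≤ 16 * orderOf y)
    (hq : ¬ commutator P ≤ zpowers y) (h4 : (center P).index = 4) : Nat.card B ≤ Nat.card P := by
  have hP : IsPGroup 2 P := H33.defect_isPGroup hD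
  have h2 := OL5.card_comm_of_index_center hP h4
  have hle := OL5.comm_le_center hP h2
  haveI : Nontrivial (commutator P) := Finite.one_lt_card_iff_nontrivial.1 (by omega)
  obtain ⟨⟨z, hz⟩, z1⟩ := exists_ne (1 : commutator P)
  have zo : orderOf z = 2 := by
    have h1 := Subgroup.orderOf_dvd_natCard _ hz
    rw [h2] at h1
    refine ((Nat.dvd_prime Nat.prime_two).1 h1).resolve_left fun e => z1 (Subtype.ext ?_)
    exact orderOf_eq_one_iff.1 e
  have ez : zpowers z = commutator P :=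
    Subgroup.eq_of_le_of_card_ge (Subgroup.zpowers_le.2 hz) (by rw [Nat.card_zpowers, zo, h2])
  by_cases h32 : Nat.card P ≤ 32
  · refine card_le_q2 hM hB hD (hle hz) (by rw [zo]; exact h32) (fun h => hq ?_) ez.ge
    rw [commutator, Subgroup.commutator_le]
    intro a _ b _
    rw [commutatorElement_eq_one_iff_mul_comm.2 (h a b)]
    exact one_mem _
  obtain ⟨K, _, _, c, φ, hc', hDc, hk, hL, hBd⟩ := red hM hB hD z (hle hz)
  refine hBd (Or.inr ⟨rfl, ?_⟩)
  obtain ⟨e, m⟩ := exists_mp hM hc' hDc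
  have hab : φ.range ≤ Cen φ.range := mn_ab.2 (by rw [hk, ez])
  have ho := m.not_dvd_card_inq hab
  have hF : (center P).map φ ≤ φ.range := Subgroup.map_le_range _ _
  refine OL5.rank_le_prime m hab Nat.prime_three ?_
  rw [card_inq] at ho ⊢
  refine OL5.relIndex_dvd_three (H33.defect_isPGroup hDc) (H86.St_le_Nor _ _ _) ho hF ?_ ?_
  · refine (eq_of_reg (p := 2) (K := St ⊤ φ.range e ⊓ Cen ((center P).map φ)) inf_le_left
      (fun t ht h => ⟨ht, ?_⟩) fun h => ho ?_).ge.trans inf_le_right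
    · obtain ⟨α, h1, -, h3⟩ := hL t (H86.St_le_Nor _ _ _ ht) h
      rintro _ ⟨x, hx, rfl⟩
      have := h3 x
      rw [fix_center hP hy hc h4 hq (by omega) h1 x hx] at this
      exact (eq_mul_inv_iff_mul_eq.1 this)
    · rw [Subgroup.inf_relIndex_left] at h
      exact h.trans (Subgroup.relIndex_dvd_of_le_left _ (Subgroup.centralizer_le hF))
  · have h1 := H1.card_mul_relIndex_of_le hF
    have h3 : ((center P).map φ).relIndex φ.range = 4 := by
      rw [φ.range_eq_map, Subgroup.relIndex_map_map, top_sup_eq, Subgroup.relIndex_top_right,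
        sup_eq_left.2 (by rw [hk, ez]; exact hle), h4]
    rw [h3] at h1
    omega

theorem card_le_n2 (hM : IsPModular 2 M) (hB : IsPBlock M B) (hD : IsDefectGroup 2 M B P)
    {y : P} (hy : y ∈ center P) (hc : Nat.card P ≤ 16 * orderOf y)
    (hq : ¬ commutator P ≤ zpowers y) : Nat.card B ≤ Nat.card P := by
  by_cases h4 : (center P).index = 4
  · exact card_le_four hM hB hD hy hc hq h4
  have hP : IsPGroup 2 P := H33.defect_isPGroup hD
  obtain ⟨K, _, _, c, φ, hc', hDc, hk, hL, hBd⟩ := red hM hB hD y hy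
  refine hBd (Or.inr ⟨rfl, ?_⟩)
  have h1 := K44.card_range_mul φ hk
  have h16 : Nat.card φ.range ≤ 16 :=
    Nat.le_of_mul_le_mul_right (c := orderOf y) (h1 ▸ hc) (orderOf_pos y)
  rcases cls_non (H33.defect_isPGroup hDc) h16 (fun h => hq (hk ▸ mn_ab.1 h)) with
    h | ⟨k, a, u, v, h⟩ | ⟨h16, hz⟩
  · exact rank_le_of_abF hM hc' hDc h
  · exact (tm_bounds hM hc' hDc h).1
  haveI := H33.charP hM
  haveI := H86.good hM K
  obtain ⟨e, m⟩ := exists_mp hM hc' hDc
  rcases TG.isNil_or_obs m.max (H86.isBlk_eB m.hB) with h | ⟨Q, L, h⟩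
  · rw [m.blockRank_of_ctrl (m.ctrl_of_isNil h)]
    norm_num
  obtain ⟨g, hg, go, gn⟩ := h.exists_odd
  rcases h.le.lt_or_eq with hQ | rfl
  · obtain ⟨k, A, a, b, q⟩ := qs_of_odd h16 hz hQ h.cen_le (h.nor hg) go gn
    obtain ⟨d, q'⟩ := q.exists_d
    exact rank_le_qs m q'
  · obtain ⟨α, a1, a2, a3⟩ := hL g (h.nor hg) go
    refine absurd (center_four hP hy hk h16 hz a1 a2 ?_) h4
    by_contra hn
    push Not at hn
    refine gn ?_
    rintro _ ⟨x, rfl⟩
    have := a3 x
    rw [hn x] at this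
    exact eq_mul_inv_iff_mul_eq.1 this

end H85.C16
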