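import Mathlib
import Cfsg.Agent.Lib.C16.MN

/-! Blocks whose defect group has a central cyclic subgroup of index at most sixteen. -/

set_option autoImplicit false
set_option linter.style.haveILetI false
attribute [local irreducible] H33.instFieldF

namespace H85.C16

open Cfsg H84 H85
open H86 (Cen)
open Subgroup (zpowers center)

universe u

theorem card_le_gen {G : Type u} [Group G] [Finite G] {p : ℕ} [hp : Fact p.Prime]
    {M : Ideal AlgInt} (hM : IsPModular p M) {B : Set (IrrCharacter G)} (hB : IsPBlock M B)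
    {D : Subgroup G} (hD : IsDefectGroup p M B D) {y : D} (hy : y ∈ center D)
    (hi : (zpowers y).index ≤ 16) : Nat.card B ≤ Nat.card D := by
  letI := Fintype.ofFinite G
  haveI := H33.isMaximal_of hM
  obtain ⟨e, h⟩ := exists_mp hM hB hD
  obtain ⟨j, hj⟩ := h.pgrp.index (zpowers y)
  have hc := (zpowers y).index_mul_card
  rw [Nat.card_zpowers] at hc
  have hab : (∀ a b : D, a * b = b * a) → D ≤ Cen D := fun k x hx =>
    Subgroup.mem_centralizer_iff.2 fun z hz => congrArg Subtype.val (k ⟨z, hz⟩ ⟨x, hx⟩)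
  by_cases h1 : j ≤ 1
  · rw [h.card_eq]
    refine card_le_of_cyclic_quot hM hB hD y hy fun K _ φ hk => ?_
    have h2 := H84.card_range_mul hk
    rw [← hc, hj] at h2
    refine isCyclic_of_card_dvd_prime (p := p) ?_
    rw [Nat.eq_of_mul_eq_mul_right (orderOf_pos y) h2]
    simpa using pow_dvd_pow p h1
  have h2 : p ^ 2 ≤ 16 := (Nat.pow_le_pow_right hp.out.pos (by omega)).trans (hj ▸ hi)
  have h3 : p ≤ 4 := by nlinarith
  have h4 := hp.out.two_le
  have h5 : p ≠ 4 := fun k => absurd hp.out (by rw [k]; norm_num)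
  obtain rfl | rfl : p = 2 ∨ p = 3 := by omega
  · have h6 : Nat.card D ≤ 16 * orderOf y := hc ▸ Nat.mul_le_mul_right _ hi
    by_cases k : ∀ a b : D, a * b = b * a
    · exact card_le_ab2 h (hab k) y.2 (by rwa [Subgroup.orderOf_coe])
    by_cases k' : commutator D ≤ zpowers y
    · exact card_le_q2 hM hB hD hy h6 k k'
    · exact card_le_n2 hM hB hD hy h6 k'
  · have h7 : j ≤ 2 := by
      by_contra k
      have := (Nat.pow_le_pow_right (n := 3) (by norm_num) (not_le.1 k)).trans (hj ▸ hi)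
      omega
    have h6 : Nat.card D ≤ 9 * orderOf y := hc ▸ Nat.mul_le_mul_right _
      (hj ▸ Nat.pow_le_pow_right (n := 3) (by norm_num) h7)
    by_cases k : ∀ a b : D, a * b = b * a
    · exact card_le_ab3 h (hab k) y.2 (by rwa [Subgroup.orderOf_coe])
    · exact card_le_non3 hM hB hD hy h6 k

theorem card_le {G : Type u} [Group G] [Finite G] {p : ℕ} [Fact p.Prime]
    {M : Ideal AlgInt} (hM : IsPModular p M) {B : Set (IrrCharacter G)} (hB : IsPBlock M B)
    {D : Subgroup G} (hD : IsDefectGroup p M B D) {Z : Subgroup G} (hZD : Z ≤ D)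
    (hZc : ∀ z ∈ Z, ∀ d ∈ D, z * d = d * z) (hcyc : IsCyclic Z) (hidx : Z.relIndex D ≤ 16) :
    Nat.card B ≤ Nat.card D := by
  obtain ⟨x, hx⟩ := (Subgroup.isCyclic_iff_exists_zpowers_eq_top Z).1 hcyc
  have hxZ : x ∈ Z := hx ▸ Subgroup.mem_zpowers x
  refine card_le_gen hM hB hD (y := ⟨x, hZD hxZ⟩)
    (Subgroup.mem_center_iff.2 fun g => Subtype.ext (hZc x hxZ g g.2).symm) ?_
  rw [Subgroup.relIndex, ← hx] at hidx
  convert hidx using 2
  ext g
  rw [Subgroup.mem_subgroupOf, Subgroup.mem_zpowers_iff, Subgroup.mem_zpowers_iff]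
  exact exists_congr fun n => by rw [Subtype.ext_iff]; rfl

end H85.C16
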